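import Cfsg.Agent.Mrg.Omega.NO3b.Closed.Base
import Cfsg.Agent.Mrg.Omega.ML.MinIrr

-- merged: Cfsg.Agent.Mrg.Omega.NO3b.Closed.Point
section

section


/-!
# #19499 (0): closed points

* `RR.step` (ITR): `D ∈ RR`, `v ∈ V`, `[v, T_D] ≤ D` ⇒ `D⟨v⟩ ∈ RR`;
* `RR.closure`, `Flag.clo_Z`;
* `plus S V D v` = `D₊ = C_V(C_S(D⟨v⟩))`: `Clo.plus`, `Clo.cent_plus`, `Clo.lt_plus`;
* `Clo.c2` (C2): `{c ∈ C_G(D) : [c, v] ∈ D} = C_G(D₊) T_D`.
-/

set_option autoImplicit false

namespace Cfsg.Agent.Omega.NO3b.ClosedPt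

open Subgroup Cfsg Cfsg.Agent.ZN Cfsg.Agent.ZN.ChoiceBase Cfsg.Agent.ZN.ChoiceSit
open Cfsg.Agent.Omega.NO3b.EZero

universe u

variable {G : Type u} [Group G] {S Z V D : Subgroup G}

/-! ### generalities -/

theorem mem_cent_sup {D : Subgroup G} {v c : G} :
    c ∈ centralizer ((D ⊔ zpowers v : Subgroup G) : Set G) ↔ c ∈ centralizer (D : Set G) ∧ c * v = v * c := by
  constructor
  · intro h
    refine ⟨centralizer_le (show (D : Set G) ⊆ _ from (le_sup_left : D ≤ D ⊔ zpowers v)) h, ?_⟩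
    exact (mem_centralizer_iff.1 h v ((le_sup_right : zpowers v ≤ D ⊔ zpowers v) (mem_zpowers v))).symm
  · rintro ⟨h1, h2⟩
    have h3 : D ⊔ zpowers v ≤ centralizer ({c} : Set G) := by
      refine sup_le ?_ (zpowers_le.2 ?_)
      · intro d hd
        exact mem_centralizer_iff.2 fun x hx => by
          rw [Set.mem_singleton_iff.1 hx]; exact (mem_centralizer_iff.1 h1 d hd).symm
      · exact mem_centralizer_iff.2 fun x hx => by rw [Set.mem_singleton_iff.1 hx]; exact h2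
    exact mem_centralizer_iff.2 fun x hx => (mem_centralizer_iff.1 (h3 hx) c rfl).symm

theorem norm_cent {A B : Subgroup G} (h : A ≤ normalizer (B : Set G)) :
    A ≤ normalizer ((centralizer (B : Set G) : Subgroup G) : Set G) := by
  intro a ha
  rw [mem_normalizer_iff_cj, cj_centralizer, mem_normalizer_iff_cj.1 (h ha)]

theorem norm_inf {A B C : Subgroup G} (h : A ≤ normalizer (B : Set G)) (h' : A ≤ normalizer (C : Set G)) :
    A ≤ normalizer ((B ⊓ C : Subgroup G) : Set G) := by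
  intro a ha
  rw [mem_normalizer_iff_cj, cj_inf, mem_normalizer_iff_cj.1 (h ha), mem_normalizer_iff_cj.1 (h' ha)]

theorem norm_of {A B : Subgroup G} (h : ∀ a ∈ A, ∀ x ∈ B, a * x * a⁻¹ ∈ B) :
    A ≤ normalizer (B : Set G) := by
  intro a ha
  rw [mem_normalizer_iff]
  refine fun x => ⟨h a ha x, fun hx => ?_⟩
  have h1 := h a⁻¹ (inv_mem ha) _ hx
  have e : a⁻¹ * (a * x * a⁻¹) * a⁻¹⁻¹ = x := by group
  rwa [e] at h1

theorem cj_mem {A B : Subgroup G} (h : A ≤ normalizer (B : Set G)) {a x : G} (ha : a ∈ A) (hx : x ∈ B) :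
    a * x * a⁻¹ ∈ B := (mem_normalizer_iff.1 (h ha) x).1 hx

theorem cj_mem' {A B : Subgroup G} (h : A ≤ normalizer (B : Set G)) {a x : G} (ha : a ∈ A) (hx : x ∈ B) :
    a⁻¹ * x * a ∈ B := (mem_normalizer_iff''.1 (h ha) x).1 hx

theorem cent_mono {A B : Subgroup G} (h : A ≤ B) : centralizer (B : Set G) ≤ centralizer (A : Set G) :=
  centralizer_le h

theorem comm_of_cent {A B : Subgroup G} (h : A ≤ centralizer (B : Set G)) {a b : G} (ha : a ∈ A) (hb : b ∈ B) :
    a * b = b * a := (mem_centralizer_iff.1 (h ha) b hb).symm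

theorem card_mul_relIndex {A B : Subgroup G} (h : A ≤ B) : Nat.card A * A.relIndex B = Nat.card B := by
  rw [Subgroup.relIndex, ← Nat.card_congr (Subgroup.subgroupOfEquivOfLe h).toEquiv]
  exact Subgroup.card_mul_index _

/-- `|K L| |K ∩ L| = |K| |L|` -/
theorem card_sup_mul {K L : Subgroup G} (h : L ≤ normalizer (K : Set G)) :
    Nat.card (K ⊔ L : Subgroup G) * Nat.card (K ⊓ L : Subgroup G) = Nat.card K * Nat.card L := by
  have hKn : (K.subgroupOf (K ⊔ L)).Normal :=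
    normal_subgroupOf_of_le_normalizer (sup_le le_normalizer h)
  have h1 := relIndex_sup_left (L.subgroupOf (K ⊔ L)) (K.subgroupOf (K ⊔ L))
  rw [← Subgroup.subgroupOf_sup le_sup_left le_sup_right, Subgroup.subgroupOf_self,
    Subgroup.relIndex_subgroupOf le_sup_right, relIndex_top_right] at h1
  have h2 : Nat.card K * K.relIndex L = Nat.card (K ⊔ L : Subgroup G) := by
    rw [← h1]
    exact card_mul_relIndex le_sup_left
  have h3 : Nat.card (K ⊓ L : Subgroup G) * K.relIndex L = Nat.card L := by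
    rw [← Subgroup.inf_relIndex_right K L]
    exact card_mul_relIndex inf_le_right
  calc _ = Nat.card (K ⊔ L : Subgroup G) * Nat.card (K ⊓ L : Subgroup G) := rfl
    _ = Nat.card K * (Nat.card (K ⊓ L : Subgroup G) * K.relIndex L) := by rw [← h2]; ring
    _ = _ := by rw [h3]

/-- `T ≤ Y` of odd index, `X ≤ Y` normalised by `T`: `T ∩ X` has odd index in `X`. -/
theorem odd_inf [Finite G] {T X Y : Subgroup G} (hTX : T ≤ normalizer (X : Set G)) (hTY : T ≤ Y) (hXY : X ≤ Y)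
    (hodd : ¬ 2 ∣ T.relIndex Y) : ¬ 2 ∣ (T ⊓ X).relIndex X := by
  intro h2
  apply hodd
  have h1 : T.relIndex (X ⊔ T) * (X ⊔ T).relIndex Y = T.relIndex Y :=
    relIndex_mul_relIndex _ _ _ le_sup_right (sup_le hXY hTY)
  refine Dvd.dvd.trans ?_ (Dvd.intro _ h1)
  have h3 := card_sup_mul hTX
  have h4 : Nat.card T * T.relIndex (X ⊔ T) = Nat.card (X ⊔ T : Subgroup G) := card_mul_relIndex le_sup_right
  have h5 : Nat.card (T ⊓ X : Subgroup G) * (T ⊓ X).relIndex X = Nat.card X := card_mul_relIndex inf_le_right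
  have h6 : T.relIndex (X ⊔ T) = (T ⊓ X).relIndex X := by
    rw [← h4, ← h5, inf_comm] at h3
    have h7 : 0 < Nat.card T := Nat.card_pos
    have h8 : 0 < Nat.card (T ⊓ X : Subgroup G) := Nat.card_pos
    have h9 : (Nat.card T * Nat.card (T ⊓ X : Subgroup G)) * T.relIndex (X ⊔ T) =
        (Nat.card T * Nat.card (T ⊓ X : Subgroup G)) * (T ⊓ X).relIndex X := by
      calc _ = Nat.card T * T.relIndex (X ⊔ T) * Nat.card (T ⊓ X : Subgroup G) := by ring
        _ = _ := h3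
        _ = _ := by ring
    exact Nat.eq_of_mul_eq_mul_left (Nat.mul_pos h7 h8) h9
  rwa [h6]

/-! ### the flag -/

namespace Flag

variable (h : Flag S Z V)
include h

theorem two : IsPGroup 2 S := h.syl.2.1

theorem SC : S ≤ centralizer (Z : Set G) := h.syl.1

theorem Wcomm : ∀ a ∈ cl V (centralizer (Z : Set G)), ∀ b ∈ cl V (centralizer (Z : Set G)), a * b = b * a :=
  fun _ ha _ hb => comm_of_cent h.comm ha hb

theorem Wsq : ∀ a ∈ cl V (centralizer (Z : Set G)), a * a = 1 := by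
  intro a ha
  have h1 := sq_of_comm h.comm (B := fun c : centralizer (Z : Set G) => cj (c : G) V)
    (fun c => cj_le_cl c.2) le_rfl (by
      rintro c _ ⟨x, hx, rfl⟩
      rw [← map_pow, pow_two, h.sq x hx, map_one]) a ha
  rwa [pow_two] at h1

theorem Vcomm : ∀ a ∈ V, ∀ b ∈ V, a * b = b * a :=
  fun a ha b hb => h.Wcomm a (le_cl _ _ ha) b (le_cl _ _ hb)

theorem VC : V ≤ centralizer (V : Set G) := fun a ha =>
  mem_centralizer_iff.2 fun b hb => h.Vcomm b hb a ha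

theorem clo_Z [Finite G] : Clo S Z V Z where
  ZD := le_rfl
  DV := h.ZV
  odd := by
    rw [inf_eq_left.2 h.SC]
    exact syl_not_dvd h.syl
  fix := fun w hw hf hy => h.fixC w hw (fun s hs => hf s ⟨hs, h.SC hs⟩) hy
  clo := fun w hw hf => h.fixV w hw (fun s hs => hf s ⟨hs, h.SC hs⟩)

end Flag

/-! ### `RR` -/

namespace RR

variable (r : RR S Z V D)
include r

theorem CD_le : centralizer (D : Set G) ≤ centralizer (Z : Set G) := cent_mono r.ZD

/-- **(ITR)** -/
theorem step [Finite G] (h : Flag S Z V) {v : G} (hv : v ∈ V)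
    (hvD : ∀ t ∈ S ⊓ centralizer (D : Set G), t * v * t⁻¹ * v⁻¹ ∈ D) : RR S Z V (D ⊔ zpowers v) := by
  set T := S ⊓ centralizer (D : Set G) with hT
  set X := centralizer ((D ⊔ zpowers v : Subgroup G) : Set G) with hX
  have hXC : X ≤ centralizer (D : Set G) := cent_mono le_sup_left
  have hTX : T ≤ normalizer (X : Set G) := by
    refine norm_cent (norm_of fun t ht x hx => ?_)
    have key : D ⊔ zpowers v ≤ cj t⁻¹ (D ⊔ zpowers v) := by
      refine sup_le ?_ (zpowers_le.2 ?_)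
      · intro d hd
        rw [mem_cj]
        have h1 := mem_centralizer_iff.1 ht.2 d hd
        have e1 : t⁻¹⁻¹ * d * t⁻¹ = d := by
          rw [inv_inv, ← h1]; group
        rw [e1]
        exact (le_sup_left : D ≤ D ⊔ zpowers v) hd
      · rw [mem_cj]
        have e1 : t⁻¹⁻¹ * v * t⁻¹ = t * v * t⁻¹ * v⁻¹ * v := by group
        rw [e1]
        exact mul_mem ((le_sup_left : D ≤ D ⊔ zpowers v) (hvD t ht))
          ((le_sup_right : zpowers v ≤ D ⊔ zpowers v) (mem_zpowers v))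
    have h1 := mem_cj.1 (key hx)
    rwa [inv_inv] at h1
  have e1 : S ⊓ X = T ⊓ X := by
    ext x
    simp only [mem_inf, hT]
    exact ⟨fun hx => ⟨⟨hx.1, hXC hx.2⟩, hx.2⟩, fun hx => ⟨hx.1.1, hx.2⟩⟩
  have hWn : centralizer (Z : Set G) ≤ normalizer (cl V (centralizer (Z : Set G)) : Set G) := le_normalizer_cl _ _
  have hodd : ¬ 2 ∣ (T ⊓ X).relIndex X := odd_inf hTX inf_le_right hXC r.odd
  refine ⟨r.ZD.trans le_sup_left, sup_le r.DV (zpowers_le.2 hv), ?_, ?_⟩
  · rw [← hX, e1]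
    exact hodd
  · rw [← hX, e1]
    exact trace' h.Wcomm h.Wsq ((hXC.trans r.CD_le).trans hWn) (h.two.to_le inf_le_left)
      ((inf_le_right.trans r.CD_le).trans hWn) hTX (cent_mono (sup_le r.DV (zpowers_le.2 hv)))
      (norm_cent (inf_le_left.trans h.SV)) hodd fun w hw hf hy x hx => r.fix w hw hf hy x (hXC hx)

/-- the closure of a point of `RR` -/
theorem cent_closure : centralizer ((V ⊓ centralizer ((S ⊓ centralizer (D : Set G) : Subgroup G) : Set G) :
    Subgroup G) : Set G) = centralizer (D : Set G) := by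
  apply le_antisymm
  · refine cent_mono fun d hd => ⟨r.DV hd, mem_centralizer_iff.2 fun t ht => ?_⟩
    exact (mem_centralizer_iff.1 ht.2 d hd).symm
  · intro c hc
    refine mem_centralizer_iff.2 fun w hw => ?_
    exact (r.fix w (le_cl _ _ hw.1) (fun t ht => mem_centralizer_iff.1 hw.2 t ht)
      (fun _ hy => (mem_centralizer_iff.1 hy w hw.1).symm) c hc).symm

theorem le_closure : D ≤ V ⊓ centralizer ((S ⊓ centralizer (D : Set G) : Subgroup G) : Set G) :=
  fun d hd => ⟨r.DV hd, mem_centralizer_iff.2 fun _ ht => (mem_centralizer_iff.1 ht.2 d hd).symm⟩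

theorem closure : Clo S Z V (V ⊓ centralizer ((S ⊓ centralizer (D : Set G) : Subgroup G) : Set G)) where
  ZD := r.ZD.trans r.le_closure
  DV := inf_le_left
  odd := by rw [r.cent_closure]; exact r.odd
  fix := by rw [r.cent_closure]; exact r.fix
  clo := by
    rw [r.cent_closure]
    exact fun w hw hf => ⟨hw, mem_centralizer_iff.2 hf⟩

end RR

/-- `D₊ = C_V(C_S(D⟨v⟩))` -/
def plus (S V D : Subgroup G) (v : G) : Subgroup G :=
  V ⊓ centralizer ((S ⊓ centralizer ((D ⊔ zpowers v : Subgroup G) : Set G) : Subgroup G) : Set G)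

namespace Clo

variable (k : Clo S Z V D)
include k

theorem mem_iff {w : G} (hw : w ∈ V) : w ∈ D ↔ ∀ t ∈ S ⊓ centralizer (D : Set G), t * w = w * t :=
  ⟨fun h _ ht => (mem_centralizer_iff.1 ht.2 w h).symm, k.clo w hw⟩

variable {v : G} (h : Flag S Z V) (hv : v ∈ V)
  (hvD : ∀ t ∈ S ⊓ centralizer (D : Set G), t * v * t⁻¹ * v⁻¹ ∈ D)

theorem plus_clo [Finite G] (h : Flag S Z V) (hv : v ∈ V)
    (hvD : ∀ t ∈ S ⊓ centralizer (D : Set G), t * v * t⁻¹ * v⁻¹ ∈ D) : Clo S Z V (plus S V D v) :=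
  (k.step h hv hvD).closure

theorem cent_plus [Finite G] (h : Flag S Z V) (hv : v ∈ V)
    (hvD : ∀ t ∈ S ⊓ centralizer (D : Set G), t * v * t⁻¹ * v⁻¹ ∈ D) :
    centralizer (plus S V D v : Set G) = centralizer ((D ⊔ zpowers v : Subgroup G) : Set G) :=
  (k.step h hv hvD).cent_closure

theorem sup_le_plus [Finite G] (h : Flag S Z V) (hv : v ∈ V)
    (hvD : ∀ t ∈ S ⊓ centralizer (D : Set G), t * v * t⁻¹ * v⁻¹ ∈ D) : D ⊔ zpowers v ≤ plus S V D v :=
  (k.step h hv hvD).le_closure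

theorem lt_plus [Finite G] (h : Flag S Z V) (hv : v ∈ V)
    (hvD : ∀ t ∈ S ⊓ centralizer (D : Set G), t * v * t⁻¹ * v⁻¹ ∈ D) (hn : v ∉ D) : D < plus S V D v := by
  have h1 := k.sup_le_plus h hv hvD
  refine lt_of_le_of_ne (le_sup_left.trans h1) fun e => hn ?_
  rw [e]
  exact h1 ((le_sup_right : zpowers v ≤ D ⊔ zpowers v) (mem_zpowers v))

theorem cent_plus_le [Finite G] (h : Flag S Z V) (hv : v ∈ V)
    (hvD : ∀ t ∈ S ⊓ centralizer (D : Set G), t * v * t⁻¹ * v⁻¹ ∈ D) :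
    centralizer (plus S V D v : Set G) ≤ centralizer (D : Set G) :=
  cent_mono (le_sup_left.trans (k.sup_le_plus h hv hvD))

end Clo

/-- `T_D` normalises `D⟨v⟩` -/
theorem norm_sup {T D : Subgroup G} {v : G} (hT : T ≤ centralizer (D : Set G))
    (hvD : ∀ t ∈ T, t * v * t⁻¹ * v⁻¹ ∈ D) : T ≤ normalizer ((D ⊔ zpowers v : Subgroup G) : Set G) := by
  refine norm_of fun t ht x hx => ?_
  have key : D ⊔ zpowers v ≤ cj t⁻¹ (D ⊔ zpowers v) := by
    refine sup_le ?_ (zpowers_le.2 ?_)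
    · intro d hd
      rw [mem_cj]
      have h1 := mem_centralizer_iff.1 (hT ht) d hd
      have e1 : t⁻¹⁻¹ * d * t⁻¹ = d := by
        rw [inv_inv, ← h1]; group
      rw [e1]
      exact (le_sup_left : D ≤ D ⊔ zpowers v) hd
    · rw [mem_cj]
      have e1 : t⁻¹⁻¹ * v * t⁻¹ = t * v * t⁻¹ * v⁻¹ * v := by group
      rw [e1]
      exact mul_mem ((le_sup_left : D ≤ D ⊔ zpowers v) (hvD t ht))
        ((le_sup_right : zpowers v ≤ D ⊔ zpowers v) (mem_zpowers v))
  have h1 := mem_cj.1 (key hx)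
  rwa [inv_inv] at h1

/-- `{c ∈ C_G(D) : [c, v] ∈ D}` -/
def sv (D : Subgroup G) (v : G) : Subgroup G where
  carrier := {c | c ∈ centralizer (D : Set G) ∧ c * v * c⁻¹ * v⁻¹ ∈ D}
  mul_mem' := by
    rintro a b ⟨ha, ha'⟩ ⟨hb, hb'⟩
    refine ⟨mul_mem ha hb, ?_⟩
    have h1 := mem_centralizer_iff.1 ha _ hb'
    have e1 : a * b * v * (a * b)⁻¹ * v⁻¹ = (a * (b * v * b⁻¹ * v⁻¹)) * a⁻¹ * (a * v * a⁻¹ * v⁻¹) := by group
    rw [e1, ← h1]
    have e2 : b * v * b⁻¹ * v⁻¹ * a * a⁻¹ * (a * v * a⁻¹ * v⁻¹) = (b * v * b⁻¹ * v⁻¹) * (a * v * a⁻¹ * v⁻¹) := by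
      group
    rw [e2]
    exact mul_mem hb' ha'
  one_mem' := ⟨one_mem _, by simp⟩
  inv_mem' := by
    rintro a ⟨ha, ha'⟩
    refine ⟨inv_mem ha, ?_⟩
    have h1 := mem_centralizer_iff.1 ha _ (inv_mem ha')
    have e1 : a⁻¹ * v * a⁻¹⁻¹ * v⁻¹ = a⁻¹ * ((a * v * a⁻¹ * v⁻¹)⁻¹ * a) := by group
    rw [e1, h1]
    have e2 : a⁻¹ * (a * (a * v * a⁻¹ * v⁻¹)⁻¹) = (a * v * a⁻¹ * v⁻¹)⁻¹ := by group
    rw [e2]
    exact inv_mem ha'

theorem mem_sv {D : Subgroup G} {v c : G} :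
    c ∈ sv D v ↔ c ∈ centralizer (D : Set G) ∧ c * v * c⁻¹ * v⁻¹ ∈ D := Iff.rfl

/-- a subgroup of odd index together with a normal subgroup with elementary abelian quotient -/
theorem le_sup_of_sq [Finite G] {K T Y : Subgroup G} (hn : Y ≤ normalizer (K : Set G))
    (hsq : ∀ y ∈ Y, y * y ∈ K) (hodd : ¬ 2 ∣ T.relIndex Y) : Y ≤ K ⊔ T := by
  have : Fact (Nat.Prime 2) := ⟨Nat.prime_two⟩
  have hN : (K.subgroupOf Y).Normal := normal_subgroupOf_of_le_normalizer hn
  have h1 : IsPGroup 2 (Y ⧸ K.subgroupOf Y) := by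
    intro q
    obtain ⟨x, rfl⟩ := QuotientGroup.mk_surjective q
    refine ⟨1, ?_⟩
    rw [← QuotientGroup.mk_pow, QuotientGroup.eq_one_iff, mem_subgroupOf, pow_one, pow_two]
    exact hsq x x.2
  obtain ⟨n, hn⟩ := IsPGroup.iff_card.1 h1
  have h2 : (K ⊔ T).relIndex Y ∣ 2 ^ n := by
    have h3 : (K ⊔ T).relIndex Y ∣ K.relIndex Y := relIndex_dvd_of_le_left _ le_sup_left
    have h4 : K.relIndex Y = 2 ^ n := by
      rw [← hn, relIndex, index_eq_card]
    rwa [h4] at h3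
  obtain ⟨j, -, hj⟩ := (Nat.dvd_prime_pow Nat.prime_two).1 h2
  have h5 : (K ⊔ T).relIndex Y ∣ T.relIndex Y := relIndex_dvd_of_le_left _ le_sup_right
  rw [hj] at h5
  rcases Nat.eq_zero_or_pos j with rfl | hj0
  · rw [pow_zero] at hj
    exact relIndex_eq_one.1 hj
  · exact absurd ((dvd_pow_self 2 hj0.ne').trans h5) hodd

/-- **(C2)** -/
theorem Clo.c2 [Finite G] (k : Clo S Z V D) (h : Flag S Z V) {v : G} (hv : v ∈ V)
    (hvD : ∀ t ∈ S ⊓ centralizer (D : Set G), t * v * t⁻¹ * v⁻¹ ∈ D) :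
    sv D v = centralizer (plus S V D v : Set G) ⊔ (S ⊓ centralizer (D : Set G)) := by
  rw [k.cent_plus h hv hvD]
  set T := S ⊓ centralizer (D : Set G) with hT
  set X := centralizer ((D ⊔ zpowers v : Subgroup G) : Set G) with hX
  have hXC : X ≤ centralizer (D : Set G) := cent_mono le_sup_left
  have hXY : X ≤ sv D v := by
    intro c hc
    obtain ⟨h1, h2⟩ := mem_cent_sup.1 hc
    refine ⟨h1, ?_⟩
    rw [h2]
    simp
  have hTY : T ≤ sv D v := fun t ht => ⟨ht.2, hvD t ht⟩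
  have hYC : sv D v ≤ centralizer (D : Set G) := fun c hc => hc.1
  apply le_antisymm _ (sup_le hXY hTY)
  refine le_sup_of_sq (norm_cent (norm_sup hYC fun c hc => hc.2)) ?_ ?_
  · intro y hy
    refine mem_cent_sup.2 ⟨mul_mem hy.1 hy.1, ?_⟩
    obtain ⟨h1, h2⟩ := hy
    set d := y * v * y⁻¹ * v⁻¹ with hd
    have h3 : y * v = d * v * y := by rw [hd]; group
    have h4 := mem_centralizer_iff.1 h1 d h2
    have h5 : d * d = 1 := h.sq d (k.DV h2)
    calc y * y * v = y * (y * v) := by group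
      _ = y * (d * v * y) := by rw [h3]
      _ = (y * d) * v * y := by group
      _ = (d * y) * v * y := by rw [h4]
      _ = d * (y * v) * y := by group
      _ = d * (d * v * y) * y := by rw [h3]
      _ = d * d * v * (y * y) := by group
      _ = v * (y * y) := by rw [h5, one_mul]
  · intro h2
    apply k.odd
    have h3 : T.relIndex (sv D v) * (sv D v).relIndex (centralizer (D : Set G)) =
        T.relIndex (centralizer (D : Set G)) := relIndex_mul_relIndex _ _ _ hTY hYC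
    exact h2.trans (Dvd.intro _ h3)

end Cfsg.Agent.Omega.NO3b.ClosedPt

end

section


/-!
# #19499: the strong form of `RR.fix`

If every `w ∈ W = ⟨V^C⟩`, `C = C_G(Z)`, fixed by `S` is centralised by `C`, then for every `D ∈ RR` every `w ∈ W`
fixed by `T_D = C_S(D)` is centralised by `C_G(D)` (`RR.strong`; the hypothesis on `C_G(V)` in `RR.fix` is automatic
by the trace lemma for `X = C_G(V)`), and `C_W(T_D ∩ X₀)` is centralised by `X₀` for every `X₀ ≤ C_G(D)` normalised by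
`T_D` (`RR.tr0`).
-/

set_option autoImplicit false

namespace Cfsg.Agent.Omega.NO3b.ClosedPt

open Subgroup Cfsg Cfsg.Agent.ZN Cfsg.Agent.ZN.ChoiceBase Cfsg.Agent.ZN.ChoiceSit
open Cfsg.Agent.Omega.NO3b.EZero

universe u

variable {G : Type u} [Group G] {S Z V D : Subgroup G}

/-- `C_W(S)` is centralised by `C_G(Z)`, `W = ⟨V^{C_G(Z)}⟩`. -/
def FixS (S Z V : Subgroup G) : Prop :=
  ∀ w ∈ cl V (centralizer (Z : Set G)), (∀ s ∈ S, s * w = w * s) → ∀ c ∈ centralizer (Z : Set G), c * w = w * c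

/-- `C_W(S) = Z` gives `FixS`. -/
theorem FixS.of_le (h : ∀ w ∈ cl V (centralizer (Z : Set G)), (∀ s ∈ S, s * w = w * s) → w ∈ Z) : FixS S Z V :=
  fun w hw hs _ hc => (mem_centralizer_iff.1 hc w (h w hw hs)).symm

/-- `C_W(C_S(V))` is centralised by `C_G(V)` -/
theorem Flag.cent_V [Finite G] (h : Flag S Z V) (hs : FixS S Z V) {w : G}
    (hw : w ∈ cl V (centralizer (Z : Set G))) (hf : ∀ t ∈ S ⊓ centralizer (V : Set G), t * w = w * t) :
    ∀ y ∈ centralizer (V : Set G), y * w = w * y := by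
  have hVC : centralizer (V : Set G) ≤ centralizer (Z : Set G) := cent_mono h.ZV
  exact trace h.Wcomm h.Wsq (hVC.trans (le_normalizer_cl _ _)) h.two (h.SC.trans (le_normalizer_cl _ _))
    (norm_cent h.SV) (odd_inf (norm_cent h.SV) h.SC hVC (syl_not_dvd h.syl))
    (fun w hw hS x hx => hs w hw hS x (hVC hx)) w hw hf

/-- **the strong form of `RR.fix`** -/
theorem RR.strong [Finite G] (r : RR S Z V D) (h : Flag S Z V) (hs : FixS S Z V) :
    ∀ w ∈ cl V (centralizer (Z : Set G)), (∀ t ∈ S ⊓ centralizer (D : Set G), t * w = w * t) →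
      ∀ c ∈ centralizer (D : Set G), c * w = w * c := fun w hw hf =>
  r.fix w hw hf (h.cent_V hs hw fun t ht => hf t ⟨ht.1, cent_mono r.DV ht.2⟩)

/-- **(TR0)** for `X₀ ≤ C_G(D)` normalised by `T_D` -/
theorem RR.tr0 [Finite G] (r : RR S Z V D) (h : Flag S Z V) (hs : FixS S Z V) {X₀ : Subgroup G}
    (hX : X₀ ≤ centralizer (D : Set G)) (hT : S ⊓ centralizer (D : Set G) ≤ normalizer (X₀ : Set G)) :
    ∀ w ∈ cl V (centralizer (Z : Set G)), (∀ t ∈ (S ⊓ centralizer (D : Set G)) ⊓ X₀, t * w = w * t) →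
      ∀ x ∈ X₀, x * w = w * x :=
  trace h.Wcomm h.Wsq ((hX.trans r.CD_le).trans (le_normalizer_cl _ _)) (h.two.to_le inf_le_left)
    ((inf_le_right.trans r.CD_le).trans (le_normalizer_cl _ _)) hT (odd_inf hT inf_le_right hX r.odd)
    fun w hw hf x hx => r.strong h hs w hw hf x (hX hx)

/-- `C_G(D)` acts on `⟨V^{C_G(D)}⟩ ≤ ⟨V^{C_G(Z)}⟩` -/
theorem RR.cl_le_cl (r : RR S Z V D) : cl V (centralizer (D : Set G)) ≤ cl V (centralizer (Z : Set G)) :=
  cl_le fun _ hc => cj_le_cl (r.CD_le hc)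

end Cfsg.Agent.Omega.NO3b.ClosedPt

end

end

-- merged: Cfsg.Agent.Mrg.Omega.NO3b.Closed.Count
section

/-!
# #19499 (3), (4), (5): the count at one end of a maximal pair

* `greedy`, `greedy_eq` : the greedy count along the lines `V i` of `W`;
* `End S Z V D B` : one end of a maximal pair: `D` closed, `B ≤ O₂(C^u) ∩ C(V)`, `V^u = V`, `[B, W_D] ≠ 1`,
  `[B, W_{D₁}] = 1` for closed `D₁ > D`;
* `End.le_Q` : `B ≤ O₂(C_G(D₊) T_D)`; `End.E_le` : `E = {b ∈ B : [b, W^v] ≤ D} ≤ O₂(C_G(D))`;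
* `End.card_le` : `|B : C_B(W_D)| ≤ |W_D : C_{W_D}(B)|`; `End.of_eq` : the case of equality;
* `End.five` : (5).
-/

set_option autoImplicit false

namespace Cfsg.Agent.Omega.NO3b.ClosedPt

open Subgroup Cfsg Cfsg.Agent.ZN Cfsg.Agent.ZN.ChoiceBase Cfsg.Agent.ZN.ChoiceSit
open Cfsg.Agent.Omega.NO3b.EZero
open Cfsg.Agent.Omega.ML.Final (MLK GDat)

universe u v

variable {G : Type u} [Group G]

theorem rel_ne [Finite G] (A B : Subgroup G) : A.relIndex B ≠ 0 := index_ne_zero_of_finite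

theorem rel_pos [Finite G] (A B : Subgroup G) : 0 < A.relIndex B := Nat.pos_of_ne_zero (rel_ne A B)

theorem rel_left [Finite G] {A B : Subgroup G} (h : A ≤ B) (C : Subgroup G) : B.relIndex C ≤ A.relIndex C :=
  relIndex_le_of_le_left h (rel_ne _ _)

theorem rel_right [Finite G] {B C : Subgroup G} (h : B ≤ C) (A : Subgroup G) : A.relIndex B ≤ A.relIndex C :=
  relIndex_le_of_le_right h (rel_ne _ _)

theorem rel_congr {A B C : Subgroup G} (h : A ⊓ C = B ⊓ C) : A.relIndex C = B.relIndex C := by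
  rw [← inf_relIndex_right A C, h, inf_relIndex_right]

/-! ### the greedy count -/

section greedy

variable {ι : Type v} {E W : Subgroup G} {V : ι → Subgroup G} {N : Subgroup G → Subgroup G}

theorem greedy_step [Finite G] (hV : ∀ i, V i ≤ W) {F : Subgroup G} (i : ι) :
    (centralizer (W : Set G)).relIndex F = (centralizer (W : Set G)).relIndex (F ⊓ centralizer (V i : Set G)) *
      (centralizer (V i : Set G)).relIndex F := by
  have h1 : centralizer (W : Set G) ⊓ F ≤ F ⊓ centralizer (V i : Set G) :=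
    le_inf inf_le_right (inf_le_left.trans (cent_mono (hV i)))
  have h2 := relIndex_mul_relIndex _ _ _ h1 (inf_le_left : F ⊓ centralizer (V i : Set G) ≤ F)
  rw [inf_relIndex_right, inf_relIndex_left] at h2
  rw [← h2]
  congr 1
  refine rel_congr ?_
  rw [inf_assoc, inf_eq_right.2 (inf_le_left : F ⊓ centralizer (V i : Set G) ≤ F)]

theorem greedy [Finite G] (hV : ∀ i, V i ≤ W) (hW : W ≤ ⨆ i, V i)
    (anti : ∀ F ≤ E, ∀ F' ≤ F, N F ≤ N F') (NW : ∀ F ≤ E, N F ≤ W)
    (cen : ∀ F ≤ E, ∀ i, V i ≤ N (F ⊓ centralizer (V i : Set G))) {m : ℕ}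
    (loc : ∀ F ≤ E, ∀ i, (centralizer (V i : Set G)).relIndex F ^ m ≤ (N F).relIndex (V i)) :
    ∀ F ≤ E, (centralizer (W : Set G)).relIndex F ^ m ≤ (N F).relIndex W := by
  intro F
  induction hn : Nat.card F using Nat.strong_induction_on generalizing F with
  | _ n ih =>
    intro hF
    by_cases hc : F ≤ centralizer (W : Set G)
    · rw [relIndex_eq_one.2 hc, one_pow]
      exact rel_pos _ _
    · have h1 : ∃ i, ¬ F ≤ centralizer (V i : Set G) := by
        by_contra h1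
        push Not at h1
        exact hc (cent_symm (hW.trans (iSup_le fun i => cent_symm (h1 i))))
      obtain ⟨i, hi⟩ := h1
      set F' := F ⊓ centralizer (V i : Set G) with hF'
      have hlt : Nat.card F' < n := by
        rw [← hn]
        refine lt_of_le_of_ne (Subgroup.card_le_of_le inf_le_left) fun h2 => hi ?_
        have h3 : F' = F := Subgroup.eq_of_le_of_card_ge inf_le_left h2.ge
        rw [← h3]
        exact inf_le_right
      have h2 := ih _ hlt F' rfl (inf_le_left.trans hF)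
      have h3 : (N F).relIndex (N F') * (N F').relIndex W = (N F).relIndex W :=
        relIndex_mul_relIndex _ _ _ (anti F hF F' inf_le_left) (NW F' (inf_le_left.trans hF))
      rw [greedy_step hV i, mul_pow, ← h3, mul_comm]
      exact Nat.mul_le_mul ((loc F hF i).trans (rel_right (cen F hF i) _)) h2

theorem greedy_eq [Finite G] (hV : ∀ i, V i ≤ W) (hW : W ≤ ⨆ i, V i)
    (anti : ∀ F ≤ E, ∀ F' ≤ F, N F ≤ N F') (NW : ∀ F ≤ E, N F ≤ W)
    (cen : ∀ F ≤ E, ∀ i, V i ≤ N (F ⊓ centralizer (V i : Set G)))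
    (loc : ∀ F ≤ E, ∀ i, (centralizer (V i : Set G)).relIndex F ≤ (N F).relIndex (V i))
    (he : (centralizer (W : Set G)).relIndex E = (N E).relIndex W) (i : ι) :
    (centralizer (V i : Set G)).relIndex E = (N E).relIndex (V i) := by
  have h2 := greedy (m := 1) hV hW anti NW cen (fun F hF i => by rw [pow_one]; exact loc F hF i)
    (E ⊓ centralizer (V i : Set G)) inf_le_left
  rw [pow_one] at h2
  have h3 : (N E).relIndex (N (E ⊓ centralizer (V i : Set G))) *
      (N (E ⊓ centralizer (V i : Set G))).relIndex W = (N E).relIndex W :=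
    relIndex_mul_relIndex _ _ _ (anti E le_rfl _ inf_le_left) (NW _ inf_le_left)
  have h4 := loc E le_rfl i
  have h5 := rel_right (cen E le_rfl i) (N E)
  have h6 := greedy_step hV (F := E) i
  refine le_antisymm h4 ?_
  set a := (centralizer (W : Set G)).relIndex (E ⊓ centralizer (V i : Set G))
  set b := (centralizer (V i : Set G)).relIndex E
  set A := (N (E ⊓ centralizer (V i : Set G))).relIndex W with hA
  set b' := (N E).relIndex (V i)
  set B' := (N E).relIndex (N (E ⊓ centralizer (V i : Set G)))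
  have hA0 : 0 < A := rel_pos _ _
  have h7 : A * b' ≤ A * b := by
    calc A * b' ≤ A * B' := Nat.mul_le_mul_left _ h5
      _ = B' * A := mul_comm _ _
      _ = (N E).relIndex W := h3
      _ = a * b := by rw [← he, h6]
      _ ≤ A * b := Nat.mul_le_mul_right _ h2
  exact Nat.le_of_mul_le_mul_left h7 hA0

end greedy

/-! ### commutators with an abelian group -/

/-- `[a, x y] = [a, x] [a, y]` in an abelian group normalised by `a` -/
theorem cm_mul {W A : Subgroup G} (hW : ∀ x ∈ W, ∀ y ∈ W, x * y = y * x) (hA : A ≤ normalizer (W : Set G))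
    {a x y : G} (ha : a ∈ A) (hx : x ∈ W) (hy : y ∈ W) :
    a * (x * y) * a⁻¹ * (x * y)⁻¹ = (a * x * a⁻¹ * x⁻¹) * (a * y * a⁻¹ * y⁻¹) := by
  have h1 : x⁻¹ * (a * y * a⁻¹ * y⁻¹) = (a * y * a⁻¹ * y⁻¹) * x⁻¹ :=
    hW _ (inv_mem hx) _ (mul_mem (cj_mem hA ha hy) (inv_mem hy))
  calc a * (x * y) * a⁻¹ * (x * y)⁻¹ = (a * x * a⁻¹) * ((a * y * a⁻¹ * y⁻¹) * x⁻¹) := by group
    _ = (a * x * a⁻¹) * (x⁻¹ * (a * y * a⁻¹ * y⁻¹)) := by rw [h1]
    _ = _ := by group

/-- `{x ∈ W : [A, x] ⊆ L}` for a subgroup `L` -/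
def cw (W A L : Subgroup G) (hW : ∀ x ∈ W, ∀ y ∈ W, x * y = y * x) (hA : A ≤ normalizer (W : Set G)) :
    Subgroup G where
  carrier := {x | x ∈ W ∧ ∀ a ∈ A, a * x * a⁻¹ * x⁻¹ ∈ L}
  mul_mem' := by
    rintro x y ⟨hx, hx'⟩ ⟨hy, hy'⟩
    refine ⟨mul_mem hx hy, fun a ha => ?_⟩
    rw [cm_mul hW hA ha hx hy]
    exact mul_mem (hx' a ha) (hy' a ha)
  one_mem' := ⟨one_mem _, fun a _ => by simp⟩
  inv_mem' := by
    rintro x ⟨hx, hx'⟩
    refine ⟨inv_mem hx, fun a ha => ?_⟩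
    have h1 := cm_mul hW hA ha hx (inv_mem hx)
    have h2 : a * (x * x⁻¹) * a⁻¹ * (x * x⁻¹)⁻¹ = 1 := by group
    rw [h2] at h1
    have h3 : a * x⁻¹ * a⁻¹ * x⁻¹⁻¹ = (a * x * a⁻¹ * x⁻¹)⁻¹ := (inv_eq_of_mul_eq_one_right h1.symm).symm
    rw [h3]
    exact inv_mem (hx' a ha)

/-- `{a ∈ A : [a, W] ⊆ Y}` for `A ≤ C(Y)` -/
def ke (A W Y : Subgroup G) (hA : A ≤ centralizer (Y : Set G)) : Subgroup G where
  carrier := {a | a ∈ A ∧ ∀ x ∈ W, a * x * a⁻¹ * x⁻¹ ∈ Y}
  mul_mem' := by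
    rintro a b ⟨ha, ha'⟩ ⟨hb, hb'⟩
    refine ⟨mul_mem ha hb, fun x hx => ?_⟩
    have h1 := mem_centralizer_iff.1 (hA ha) _ (hb' x hx)
    have e1 : a * b * x * (a * b)⁻¹ * x⁻¹ = (a * (b * x * b⁻¹ * x⁻¹)) * a⁻¹ * (a * x * a⁻¹ * x⁻¹) := by group
    rw [e1, ← h1]
    have e2 : b * x * b⁻¹ * x⁻¹ * a * a⁻¹ * (a * x * a⁻¹ * x⁻¹) = (b * x * b⁻¹ * x⁻¹) * (a * x * a⁻¹ * x⁻¹) := by
      group
    rw [e2]
    exact mul_mem (hb' x hx) (ha' x hx)
  one_mem' := ⟨one_mem _, fun x _ => by simp⟩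
  inv_mem' := by
    rintro a ⟨ha, ha'⟩
    refine ⟨inv_mem ha, fun x hx => ?_⟩
    have h1 := mem_centralizer_iff.1 (hA ha) _ (inv_mem (ha' x hx))
    have e1 : a⁻¹ * x * a⁻¹⁻¹ * x⁻¹ = a⁻¹ * ((a * x * a⁻¹ * x⁻¹)⁻¹ * a) := by group
    rw [e1, h1]
    have e2 : a⁻¹ * (a * (a * x * a⁻¹ * x⁻¹)⁻¹) = (a * x * a⁻¹ * x⁻¹)⁻¹ := by group
    rw [e2]
    exact inv_mem (ha' x hx)

/-- `L(v)` as a subgroup -/
theorem exists_L {T D : Subgroup G} {v : G} (hT : T ≤ centralizer (D : Set G))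
    (hv : ∀ t ∈ T, t * v * t⁻¹ * v⁻¹ ∈ D) : ∃ L : Subgroup G, L ≤ D ∧ ∀ d, d ∈ L ↔ InL T v d := by
  refine ⟨{ carrier := {d | InL T v d}, mul_mem' := ?_, one_mem' := ⟨1, one_mem _, by simp⟩, inv_mem' := ?_ }, ?_,
    fun d => Iff.rfl⟩
  · rintro _ _ ⟨a, ha, rfl⟩ ⟨b, hb, rfl⟩
    refine ⟨b * a, mul_mem hb ha, ?_⟩
    have h1 := mem_centralizer_iff.1 (hT hb) _ (hv a ha)
    have e1 : b * a * v * (b * a)⁻¹ * v⁻¹ = (b * (a * v * a⁻¹ * v⁻¹)) * b⁻¹ * (b * v * b⁻¹ * v⁻¹) := by group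
    rw [e1, ← h1]
    group
  · rintro _ ⟨a, ha, rfl⟩
    refine ⟨a⁻¹, inv_mem ha, ?_⟩
    have h1 := mem_centralizer_iff.1 (hT ha) _ (inv_mem (hv a ha))
    have e1 : a⁻¹ * v * a⁻¹⁻¹ * v⁻¹ = a⁻¹ * ((a * v * a⁻¹ * v⁻¹)⁻¹ * a) := by group
    rw [e1, h1]
    group
  · rintro _ ⟨a, ha, rfl⟩
    exact hv a ha

/-- `W^v = D⟨v^{C_G(D)}⟩` -/
def Wv (D : Subgroup G) (v : G) : Subgroup G := D ⊔ cl (zpowers v) (centralizer (D : Set G))

theorem D_le_Wv {D : Subgroup G} {v : G} : D ≤ Wv D v := le_sup_left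

theorem cj_mem_Wv {D : Subgroup G} {v c : G} (hc : c ∈ centralizer (D : Set G)) : c * v * c⁻¹ ∈ Wv D v :=
  (le_sup_right : cl (zpowers v) (centralizer (D : Set G)) ≤ _) (cj_le_cl hc (mem_cj_self (mem_zpowers v)))

theorem mem_Wv {D : Subgroup G} {v : G} : v ∈ Wv D v := by
  have := cj_mem_Wv (v := v) (one_mem (centralizer (D : Set G)))
  simpa using this

/-- `W^v` is generated by `D` and the `v^c` -/
theorem Wv_le {D U : Subgroup G} {v : G} (h1 : D ≤ U)
    (h2 : ∀ c ∈ centralizer (D : Set G), c * v * c⁻¹ ∈ U) : Wv D v ≤ U := by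
  refine sup_le h1 (cl_le fun c hc => ?_)
  rintro _ ⟨x, hx, rfl⟩
  obtain ⟨n, rfl⟩ := mem_zpowers_iff.1 hx
  have h3 : (MulAut.conj c).toMonoidHom (v ^ n) = (c * v * c⁻¹) ^ n := by
    rw [map_zpow]
    rfl
  rw [h3]
  exact zpow_mem (h2 c hc) n

theorem norm_Wv {D : Subgroup G} {v : G} : centralizer (D : Set G) ≤ normalizer (Wv D v : Set G) := by
  refine norm_of fun c hc x hx => ?_
  have h1 : Wv D v ≤ cj c⁻¹ (Wv D v) := by
    refine Wv_le (fun d hd => ?_) fun d hd => ?_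
    · rw [mem_cj, inv_inv]
      have h2 := mem_centralizer_iff.1 hc d hd
      have e : c * d * c⁻¹ = d := by rw [← h2]; group
      rw [e]
      exact D_le_Wv hd
    · rw [mem_cj, inv_inv]
      have e : c * (d * v * d⁻¹) * c⁻¹ = (c * d) * v * (c * d)⁻¹ := by group
      rw [e]
      exact cj_mem_Wv (mul_mem hc hd)
  have h2 := mem_cj.1 (h1 hx)
  rwa [inv_inv] at h2

/-! ### one end -/

/-- one end of a maximal pair -/
structure End (S Z V D B : Subgroup G) : Prop where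
  flag : Flag S Z V
  clo : Clo S Z V D
  Bsq : ∀ b ∈ B, b * b = 1
  cent : B ≤ centralizer (V : Set G)
  ho : ∃ u : G, cj u V = V ∧ B ≤ o2 (cj u (centralizer (Z : Set G)))
  ne : ¬ B ≤ centralizer (cl V (centralizer (D : Set G)) : Set G)
  max : ∀ D₁, Clo S Z V D₁ → D < D₁ → B ≤ centralizer (cl V (centralizer (D₁ : Set G)) : Set G)

/-- `T_D` normalises `⟨V^X⟩` for `X` normalised by `T_D` -/
theorem norm_cl {T V X : Subgroup G} (hV : T ≤ normalizer (V : Set G)) (hX : T ≤ normalizer (X : Set G)) :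
    T ≤ normalizer (cl V X : Set G) := by
  refine norm_of fun t ht x hx => ?_
  have h1 : cl V X ≤ cj t⁻¹ (cl V X) := by
    refine cl_le fun c hc => ?_
    have h2 : cj (t * c * t⁻¹) V ≤ cl V X := cj_le_cl (cj_mem hX ht hc)
    have h3 := cj_mono t⁻¹ h2
    rw [cj_cj] at h3
    have e : t⁻¹ * (t * c * t⁻¹) = c * t⁻¹ := by group
    rw [e, ← cj_cj, mem_normalizer_iff_cj.1 (inv_mem (hV ht))] at h3
    exact h3
  have h2 := mem_cj.1 (h1 hx)
  rwa [inv_inv] at h2

theorem norm_o2 {A B : Subgroup G} (h : A ≤ normalizer (B : Set G)) :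
    A ≤ normalizer ((o2 B : Subgroup G) : Set G) := by
  intro a ha
  rw [mem_normalizer_iff_cj, ← o2_cj, mem_normalizer_iff_cj.1 (h ha)]

/-- `O₂` of a normal subgroup -/
theorem o2_le_of [Finite G] {K X : Subgroup G} (hKX : K ≤ X) (hn : X ≤ normalizer (K : Set G)) : o2 K ≤ o2 X :=
  le_o2 (isPGroup_o2 K) ((o2_le K).trans hKX) (norm_o2 hn)

/-- a normal 2-subgroup of odd index 2-subgroups -/
theorem o2_le_odd [Finite G] {T X : Subgroup G} (hT : IsPGroup 2 T) (hTX : T ≤ X) (hodd : ¬ 2 ∣ T.relIndex X) :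
    o2 X ≤ T := by
  have : Fact (Nat.Prime 2) := ⟨Nat.prime_two⟩
  have h1 : IsPGroup 2 (T ⊔ o2 X : Subgroup G) :=
    IsPGroup.to_sup_of_normal_right' hT (isPGroup_o2 X) (hTX.trans (le_normalizer_o2 X))
  obtain ⟨n, hn⟩ := IsPGroup.iff_card.1 h1
  have h2 : T.relIndex (T ⊔ o2 X) ∣ 2 ^ n := by
    rw [← hn, ← card_mul_relIndex (le_sup_left : T ≤ T ⊔ o2 X)]
    exact Dvd.intro_left _ rfl
  obtain ⟨j, -, hj⟩ := (Nat.dvd_prime_pow Nat.prime_two).1 h2
  have h3 : T.relIndex (T ⊔ o2 X) * (T ⊔ o2 X).relIndex X = T.relIndex X :=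
    relIndex_mul_relIndex _ _ _ le_sup_left (sup_le hTX (o2_le X))
  rcases Nat.eq_zero_or_pos j with rfl | hj0
  · rw [pow_zero] at hj
    exact le_sup_right.trans (relIndex_eq_one.1 hj)
  · refine absurd ?_ hodd
    rw [← h3, hj]
    exact (dvd_pow_self 2 hj0.ne').trans (Dvd.intro _ rfl)

namespace End

variable {S Z V D B : Subgroup G} (e : End S Z V D B)
include e

theorem WD_le : cl V (centralizer (D : Set G)) ≤ cl V (centralizer (Z : Set G)) :=
  cl_le fun _ hp => cj_le_cl (e.clo.CD_le hp)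

theorem WD_comm : ∀ a ∈ cl V (centralizer (D : Set G)), ∀ b ∈ cl V (centralizer (D : Set G)), a * b = b * a :=
  fun a ha b hb => e.flag.Wcomm a (e.WD_le ha) b (e.WD_le hb)

theorem D_le_WD : D ≤ cl V (centralizer (D : Set G)) := e.clo.DV.trans (le_cl _ _)

theorem B_cent : B ≤ centralizer (D : Set G) := e.cent.trans (cent_mono e.clo.DV)

theorem D_ne : D ≠ V := by
  rintro rfl
  apply e.ne
  have h1 : cl D (centralizer (D : Set G)) ≤ D := by
    refine cl_le fun c hc => ?_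
    rw [mem_normalizer_iff_cj.1 (centralizer_le_normalizer _ hc)]
  exact e.cent.trans (cent_mono h1)

theorem T_le : S ⊓ centralizer (D : Set G) ≤ normalizer (V : Set G) := inf_le_left.trans e.flag.SV

variable {v : G}

theorem Wv_le_WD (hv : v ∈ V) : Wv D v ≤ cl V (centralizer (D : Set G)) :=
  Wv_le e.D_le_WD fun _ hc => cj_le_cl hc (mem_cj_self hv)

/-- `B ≤ O₂(C_G(D₊) T_D)` -/
theorem le_Q [Finite G] (hv : v ∈ V) (hvD : v ∉ D)
    (hvT : ∀ t ∈ S ⊓ centralizer (D : Set G), t * v * t⁻¹ * v⁻¹ ∈ D) :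
    B ≤ o2 (centralizer (plus S V D v : Set G) ⊔ (S ⊓ centralizer (D : Set G))) := by
  set P := plus S V D v with hP
  set K := centralizer (cl V (centralizer (P : Set G)) : Set G) with hK
  set X := centralizer (P : Set G) ⊔ (S ⊓ centralizer (D : Set G)) with hX
  have hKV : K ≤ centralizer (V : Set G) := cent_mono (le_cl _ _)
  have hKP : K ≤ centralizer (P : Set G) := hKV.trans (cent_mono inf_le_left)
  have hBK : B ≤ K := e.max P (e.clo.plus_clo e.flag hv hvT) (e.clo.lt_plus e.flag hv hvT hvD)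
  obtain ⟨u, hu, hBu⟩ := e.ho
  have hKu : K ≤ cj u (centralizer (Z : Set G)) := by
    rw [cj_centralizer]
    refine hKV.trans (cent_mono ?_)
    rw [← hu]
    exact cj_mono u e.flag.ZV
  have h1 : B ≤ o2 K := by
    have h2 : o2 (cj u (centralizer (Z : Set G))) ⊓ K ≤ o2 K :=
      le_o2 ((isPGroup_o2 _).to_le inf_le_left) inf_le_right
        (norm_inf (hKu.trans (le_normalizer_o2 _)) le_normalizer)
    exact (le_inf hBu hBK).trans h2
  refine h1.trans (o2_le_of (hKP.trans le_sup_left) ?_)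
  have h3 : centralizer (P : Set G) ≤ normalizer (cl V (centralizer (P : Set G)) : Set G) := le_normalizer_cl _ _
  have h4 : S ⊓ centralizer (D : Set G) ≤ normalizer (centralizer (P : Set G) : Set G) := by
    rw [e.clo.cent_plus e.flag hv hvT]
    exact norm_cent (norm_sup inf_le_right hvT)
  exact norm_cent (sup_le h3 (norm_cl e.T_le h4))

/-- `E = {b ∈ B : [b, W^v] ≤ D}` -/
def E (e : End S Z V D B) (v : G) : Subgroup G := ke B (Wv D v) D e.B_cent

theorem mem_E {a : G} : a ∈ e.E v ↔ a ∈ B ∧ ∀ x ∈ Wv D v, a * x * a⁻¹ * x⁻¹ ∈ D := Iff.rfl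

theorem E_le_B : e.E v ≤ B := fun _ h => h.1

/-- the members of `E` in terms of `{c ∈ C_G(D) : [c, v] ∈ D}` -/
theorem mem_E_iff (hv : v ∈ V) {a : G} :
    a ∈ e.E v ↔ a ∈ B ∧ ∀ c ∈ centralizer (D : Set G), c⁻¹ * a * c ∈ sv D v := by
  constructor
  · rintro ⟨h1, h2⟩
    refine ⟨h1, fun c hc => ⟨mul_mem (mul_mem (inv_mem hc) (e.B_cent h1)) hc, ?_⟩⟩
    have h3 := h2 _ (cj_mem_Wv (v := v) hc)
    have h4 := mem_centralizer_iff.1 (inv_mem hc) _ h3
    have e1 : c⁻¹ * a * c * v * (c⁻¹ * a * c)⁻¹ * v⁻¹ =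
      c⁻¹ * (a * (c * v * c⁻¹) * a⁻¹ * (c * v * c⁻¹)⁻¹) * c := by group
    rw [e1, ← h4]
    have e2 : a * (c * v * c⁻¹) * a⁻¹ * (c * v * c⁻¹)⁻¹ * c⁻¹ * c = a * (c * v * c⁻¹) * a⁻¹ * (c * v * c⁻¹)⁻¹ := by
      group
    rwa [e2]
  · rintro ⟨h1, h2⟩
    refine ⟨h1, ?_⟩
    have hBn : B ≤ normalizer (cl V (centralizer (D : Set G)) : Set G) := e.B_cent.trans (le_normalizer_cl _ _)
    have h3 : Wv D v ≤ cw (cl V (centralizer (D : Set G))) (zpowers a) D e.WD_comm
        ((zpowers_le.2 h1).trans hBn) := by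
      refine Wv_le (fun d hd => ⟨e.D_le_WD hd, ?_⟩) fun c hc => ⟨e.Wv_le_WD hv (cj_mem_Wv hc), ?_⟩
      · rintro b hb
        have h4 := mem_centralizer_iff.1 (e.B_cent ((zpowers_le.2 h1) hb)) d hd
        have e1 : b * d * b⁻¹ * d⁻¹ = 1 := by rw [← h4]; group
        rw [e1]
        exact one_mem _
      · -- powers of `a`
        have h5 : zpowers a ≤ ke (zpowers a) (zpowers (c * v * c⁻¹)) D ((zpowers_le.2 h1).trans e.B_cent) := by
          refine zpowers_le.2 ⟨mem_zpowers a, ?_⟩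
          have h6 : zpowers (c * v * c⁻¹) ≤ cw (cl V (centralizer (D : Set G))) (zpowers a) D e.WD_comm
              ((zpowers_le.2 h1).trans hBn) ⊔ ⊥ := by
            rw [sup_bot_eq]
            refine zpowers_le.2 ⟨e.Wv_le_WD hv (cj_mem_Wv hc), ?_⟩
            have h7 : zpowers a ≤ (sv D v).map (MulAut.conj c).toMonoidHom := by
              refine zpowers_le.2 ?_
              exact mem_cj.2 (h2 c hc)
            intro b hb
            have h8 := mem_cj.1 (h7 hb)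
            have h9 := mem_centralizer_iff.1 hc _ h8.2
            have e1 : b * (c * v * c⁻¹) * b⁻¹ * (c * v * c⁻¹)⁻¹ =
              c * (c⁻¹ * b * c * v * (c⁻¹ * b * c)⁻¹ * v⁻¹) * c⁻¹ := by group
            rw [e1, ← h9]
            have e2 : c⁻¹ * b * c * v * (c⁻¹ * b * c)⁻¹ * v⁻¹ * c * c⁻¹ =
              c⁻¹ * b * c * v * (c⁻¹ * b * c)⁻¹ * v⁻¹ := by group
            rw [e2]
            exact h8.2
          intro x hx
          have h7 := h6 hx
          rw [sup_bot_eq] at h7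
          exact h7.2 a (mem_zpowers a)
        intro b hb
        exact (h5 hb).2 _ (mem_zpowers _)
    intro x hx
    exact (h3 hx).2 a (mem_zpowers a)

/-- `E ≤ O₂(C_G(D))` -/
theorem E_le [Finite G] (hv : v ∈ V) (hvD : v ∉ D)
    (hvT : ∀ t ∈ S ⊓ centralizer (D : Set G), t * v * t⁻¹ * v⁻¹ ∈ D) :
    e.E v ≤ o2 (centralizer (D : Set G)) := by
  set N := ke (centralizer (D : Set G)) (Wv D v) D le_rfl with hN
  have hNC : N ≤ centralizer (D : Set G) := fun a h => h.1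
  have hNs : N ≤ sv D v := fun a h => ⟨h.1, h.2 v mem_Wv⟩
  rw [e.clo.c2 e.flag hv hvT] at hNs
  have hCN : centralizer (D : Set G) ≤ normalizer (N : Set G) := by
    refine norm_of fun c hc a ha => ⟨mul_mem (mul_mem hc ha.1) (inv_mem hc), fun x hx => ?_⟩
    have h1 := ha.2 _ (cj_mem' norm_Wv hc hx)
    have h2 := mem_centralizer_iff.1 hc _ h1
    have e1 : c * a * c⁻¹ * x * (c * a * c⁻¹)⁻¹ * x⁻¹ =
      c * (a * (c⁻¹ * x * c) * a⁻¹ * (c⁻¹ * x * c)⁻¹) * c⁻¹ := by group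
    rw [e1, ← h2]
    have e2 : a * (c⁻¹ * x * c) * a⁻¹ * (c⁻¹ * x * c)⁻¹ * c * c⁻¹ = a * (c⁻¹ * x * c) * a⁻¹ * (c⁻¹ * x * c)⁻¹ := by
      group
    rwa [e2]
  have h1 : e.E v ≤ o2 (centralizer (plus S V D v : Set G) ⊔ (S ⊓ centralizer (D : Set G))) ⊓ N :=
    fun a ha => ⟨e.le_Q hv hvD hvT ha.1, e.B_cent ha.1, ha.2⟩
  have h2 : o2 (centralizer (plus S V D v : Set G) ⊔ (S ⊓ centralizer (D : Set G))) ⊓ N ≤ o2 N :=
    le_o2 ((isPGroup_o2 _).to_le inf_le_left) inf_le_right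
      (norm_inf (hNs.trans (le_normalizer_o2 _)) le_normalizer)
  exact h1.trans (h2.trans (o2_le_of hNC hCN))

/-- `O₂(C_G(D)) ≤ T_D^c` -/
theorem o2_le_cj [Finite G] {c : G} (hc : c ∈ centralizer (D : Set G)) :
    o2 (centralizer (D : Set G)) ≤ cj c (S ⊓ centralizer (D : Set G)) := by
  have h1 := o2_le_odd (e.flag.two.to_le inf_le_left) (inf_le_right : S ⊓ centralizer (D : Set G) ≤ _) e.clo.odd
  have h2 := cj_mono c h1
  rwa [mem_normalizer_iff_cj.1 (le_normalizer_o2 _ hc)] at h2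

end End

end Cfsg.Agent.Omega.NO3b.ClosedPt

end

-- merged: Cfsg.Agent.Mrg.Omega.NO3b.Closed.CountB
section

section


/-!
# #19499 (4), (5): the count

* `End.card_le` : `|B : C_B(W_D)| ≤ |W_D : C_{W_D}(B)|`;
* `End.of_eq` : the case of equality: `B` is exact on `W^v / D` with full preimage, `[E, W_D] ≤ D`, `e ≤ x`;
* `End.five` : `|W_D : {w : [w, B] ≤ D}| < |B : E|²`, or `e = x > 0` and `C_{W_D}(E) = C_{W_D}(B)`.
-/

set_option autoImplicit false

namespace Cfsg.Agent.Omega.NO3b.ClosedPt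

open Subgroup Cfsg Cfsg.Agent.ZN Cfsg.Agent.ZN.ChoiceBase Cfsg.Agent.ZN.ChoiceSit
open Cfsg.Agent.Omega.NO3b.EZero
open Cfsg.Agent.Omega.ML.Final (MLK GDat)

universe u

variable {G : Type u} [Group G]

/-- conjugation by an element centralising `D` does not change `InL` -/
theorem inL_conj {T D : Subgroup G} {v c d : G} (hv : ∀ t ∈ T, t * v * t⁻¹ * v⁻¹ ∈ D)
    (hc : c ∈ centralizer (D : Set G)) : InL T v (c * d * c⁻¹) ↔ InL T v d := by
  have key : ∀ {c d : G}, c ∈ centralizer (D : Set G) → InL T v d → c * d * c⁻¹ = d := by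
    rintro c d hc ⟨t, ht, rfl⟩
    rw [← mem_centralizer_iff.1 hc _ (hv t ht)]
    group
  constructor
  · intro h
    have h1 := key (inv_mem hc) h
    have e1 : c⁻¹ * (c * d * c⁻¹) * c⁻¹⁻¹ = d := by group
    rw [e1] at h1
    rw [h1]
    exact h
  · intro h
    rw [key hc h]
    exact h

section loc

variable {S V D lam T₀ T W F N : Subgroup G} {v c : G}

/-- the transfer of `{x ∈ V^c : [F, x] ⊆ L(v)}` to `V` -/
theorem conj_N (hv : ∀ t ∈ T, t * v * t⁻¹ * v⁻¹ ∈ D) (hc : c ∈ centralizer (D : Set G)) (hW : cj c V ≤ W)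
    (hN : ∀ x, x ∈ N ↔ x ∈ W ∧ ∀ a ∈ F, InL T v (a * x * a⁻¹ * x⁻¹)) :
    ∀ x, x ∈ cj c⁻¹ (N ⊓ cj c V) ↔ x ∈ V ∧ ∀ a ∈ cj c⁻¹ F, InL T v (a * x * a⁻¹ * x⁻¹) := by
  intro x
  rw [mem_cj, inv_inv, mem_inf, hN, mem_cj]
  have e1 : c⁻¹ * (c * x * c⁻¹) * c = x := by group
  rw [e1]
  constructor
  · rintro ⟨⟨-, h1⟩, h2⟩
    refine ⟨h2, fun a ha => ?_⟩
    have h3 := h1 _ (mem_cj.1 ha)
    rw [inv_inv] at h3
    have e2 : c * a * c⁻¹ * (c * x * c⁻¹) * (c * a * c⁻¹)⁻¹ * (c * x * c⁻¹)⁻¹ = c * (a * x * a⁻¹ * x⁻¹) * c⁻¹ := by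
      group
    rw [e2] at h3
    exact (inL_conj hv hc).1 h3
  · rintro ⟨h1, h2⟩
    refine ⟨⟨hW (mem_cj_self h1), fun a ha => ?_⟩, h1⟩
    have h3 := h2 (c⁻¹ * a * c) (by
      rw [mem_cj, inv_inv]
      have e3 : c * (c⁻¹ * a * c) * c⁻¹ = a := by group
      rwa [e3])
    have e2 : a * (c * x * c⁻¹) * a⁻¹ * (c * x * c⁻¹)⁻¹ =
      c * (c⁻¹ * a * c * x * (c⁻¹ * a * c)⁻¹ * x⁻¹) * c⁻¹ := by group
    rw [e2]
    exact (inL_conj hv hc).2 h3

theorem rel_conj_cent : (centralizer (V : Set G)).relIndex (cj c⁻¹ F) =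
    (centralizer (cj c V : Set G)).relIndex F := by
  rw [← relIndex_cj c, cj_cj_inv, cj_centralizer]

theorem rel_conj_N : (cj c⁻¹ (N ⊓ cj c V)).relIndex V = N.relIndex (cj c V) := by
  rw [← relIndex_cj c, cj_cj_inv, inf_relIndex_right]

theorem cj_sq (hsq : ∀ a ∈ F, a * a = 1) : ∀ a ∈ cj c⁻¹ F, a * a = 1 := by
  rintro _ ⟨a, ha, rfl⟩
  rw [← map_mul, hsq a ha, map_one]

variable (g : GoodAt T V D lam T₀) (hT : T ≤ centralizer (D : Set G)) (hvl : v ∈ lam) (hvD : v ∉ D)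
  (hc : c ∈ centralizer (D : Set G)) (hF : F ≤ cj c T) (hsq : ∀ a ∈ F, a * a = 1) (hW : cj c V ≤ W)
  (hN : ∀ x, x ∈ N ↔ x ∈ W ∧ ∀ a ∈ F, InL T v (a * x * a⁻¹ * x⁻¹))
include g hvl hvD hc hF hsq hW hN

theorem loc_off : (centralizer (cj c V : Set G)).relIndex F ≤ N.relIndex (cj c V) := by
  have h1 : cj c⁻¹ F ≤ T := by
    have := cj_mono c⁻¹ hF
    rwa [cj_inv_cj] at this
  have h2 := g.off v hvl hvD _ h1 (cj_sq hsq) _ (conj_N (g.comm v hvl) hc hW hN)
  rwa [rel_conj_cent, rel_conj_N] at h2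

theorem loc_eq (he : (centralizer (cj c V : Set G)).relIndex F = N.relIndex (cj c V)) :
    ∀ a ∈ F, ∀ x ∈ cj c V, a * x * a⁻¹ * x⁻¹ ∈ D := by
  have h1 : cj c⁻¹ F ≤ T := by
    have := cj_mono c⁻¹ hF
    rwa [cj_inv_cj] at this
  have h2 := g.eq v hvl hvD _ h1 (cj_sq hsq) _ (conj_N (g.comm v hvl) hc hW hN)
  rw [rel_conj_cent, rel_conj_N] at h2
  intro a ha x hx
  have h3 := h2 he (c⁻¹ * a * c) (by
      rw [mem_cj, inv_inv]
      have e3 : c * (c⁻¹ * a * c) * c⁻¹ = a := by group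
      rwa [e3]) _ (mem_cj.1 hx)
  have h4 := mem_centralizer_iff.1 hc _ h3
  have e1 : a * x * a⁻¹ * x⁻¹ = c * (c⁻¹ * a * c * (c⁻¹ * x * c) * (c⁻¹ * a * c)⁻¹ * (c⁻¹ * x * c)⁻¹) * c⁻¹ := by
    group
  rw [e1, ← h4]
  have e2 : c⁻¹ * a * c * (c⁻¹ * x * c) * (c⁻¹ * a * c)⁻¹ * (c⁻¹ * x * c)⁻¹ * c * c⁻¹ =
    c⁻¹ * a * c * (c⁻¹ * x * c) * (c⁻¹ * a * c)⁻¹ * (c⁻¹ * x * c)⁻¹ := by group
  rwa [e2]

omit hvl hvD hc hW hN in
theorem loc_sq : (centralizer (cj c V : Set G)).relIndex F ^ 2 ≤ (centralizer (F : Set G)).relIndex (cj c V) := by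
  have h1 : cj c⁻¹ F ≤ T := by
    have := cj_mono c⁻¹ hF
    rwa [cj_inv_cj] at this
  have h2 := g.sq _ h1 (cj_sq hsq)
  rw [rel_conj_cent, ← relIndex_cj c (centralizer _) V, cj_centralizer, cj_cj_inv] at h2
  exact h2

end loc

namespace End

variable {S Z V D B lam T₀ : Subgroup G} (e : End S Z V D B)
include e

theorem B_norm : B ≤ normalizer (cl V (centralizer (D : Set G)) : Set G) :=
  e.B_cent.trans (le_normalizer_cl _ _)

variable {v : G} (g : GoodAt (S ⊓ centralizer (D : Set G)) V D lam T₀) (hvl : v ∈ lam) (hvD : v ∉ D)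

/-- `{w ∈ W_D : [E, w] ⊆ L}` -/
def NL (e : End S Z V D B) (v : G) (L F : Subgroup G) : Subgroup G :=
  cw (cl V (centralizer (D : Set G))) (F ⊓ e.E v) L e.WD_comm (inf_le_right.trans (e.E_le_B.trans e.B_norm))

theorem mem_NL {L F : Subgroup G} {x : G} : x ∈ e.NL v L F ↔
    x ∈ cl V (centralizer (D : Set G)) ∧ ∀ a ∈ F ⊓ e.E v, a * x * a⁻¹ * x⁻¹ ∈ L := Iff.rfl

/-- `{x ∈ W^v : [B, x] ≤ D}` -/
def CW (e : End S Z V D B) (v : G) (hv : v ∈ V) : Subgroup G :=
  cw (Wv D v) B D (fun a ha b hb => e.WD_comm a (e.Wv_le_WD hv ha) b (e.Wv_le_WD hv hb))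
    (e.B_cent.trans norm_Wv)

theorem mem_CW {hv : v ∈ V} {x : G} : x ∈ e.CW v hv ↔ x ∈ Wv D v ∧ ∀ a ∈ B, a * x * a⁻¹ * x⁻¹ ∈ D := Iff.rfl

/-! ### the six inequalities -/

theorem a1 (hv : v ∈ V) : (centralizer (cl V (centralizer (D : Set G)) : Set G)).relIndex B =
    (centralizer (cl V (centralizer (D : Set G)) : Set G)).relIndex (e.E v) * (e.E v).relIndex B := by
  have h1 : centralizer (cl V (centralizer (D : Set G)) : Set G) ⊓ B ≤ e.E v := by
    rintro b ⟨hb, hbB⟩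
    refine ⟨hbB, fun x hx => ?_⟩
    have h2 := mem_centralizer_iff.1 hb x (e.Wv_le_WD hv hx)
    have e1 : b * x * b⁻¹ * x⁻¹ = 1 := by rw [← h2]; group
    rw [e1]
    exact one_mem _
  have h2 := relIndex_mul_relIndex _ _ _ h1 e.E_le_B
  rw [inf_relIndex_right] at h2
  rw [← h2]
  congr 1
  refine rel_congr ?_
  rw [inf_assoc, inf_eq_right.2 e.E_le_B]

theorem a2 (hv : v ∈ V) : (centralizer (B : Set G)).relIndex (cl V (centralizer (D : Set G))) =
    (cl V (centralizer (D : Set G)) ⊓ centralizer (B : Set G)).relIndex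
      (Wv D v ⊔ (cl V (centralizer (D : Set G)) ⊓ centralizer (B : Set G))) *
    (Wv D v ⊔ (cl V (centralizer (D : Set G)) ⊓ centralizer (B : Set G))).relIndex
      (cl V (centralizer (D : Set G))) := by
  rw [relIndex_mul_relIndex _ _ _ le_sup_right (sup_le (e.Wv_le_WD hv) inf_le_left), inf_relIndex_left]

theorem a3 [Finite G] (hv : v ∈ V) : (centralizer (B : Set G)).relIndex (Wv D v) ≤
    (cl V (centralizer (D : Set G)) ⊓ centralizer (B : Set G)).relIndex
      (Wv D v ⊔ (cl V (centralizer (D : Set G)) ⊓ centralizer (B : Set G))) := by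
  refine le_trans (le_of_eq (rel_congr ?_)) (rel_right le_sup_left _)
  rw [inf_comm (cl V _) (centralizer _), inf_assoc, inf_eq_right.2 (e.Wv_le_WD hv)]

theorem a4 [Finite G] (hv : v ∈ V) :
    (e.CW v hv).relIndex (Wv D v) ≤ (centralizer (B : Set G)).relIndex (Wv D v) := by
  rw [← inf_relIndex_right (centralizer _)]
  refine rel_left ?_ _
  rintro x ⟨hx, hxW⟩
  refine ⟨hxW, fun a ha => ?_⟩
  have h2 := mem_centralizer_iff.1 hx a ha
  have e1 : a * x * a⁻¹ * x⁻¹ = 1 := by rw [h2]; group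
  rw [e1]
  exact one_mem _

/-- **(ML)** -/
theorem a5 [Finite G] (ml : MLK.{u, u}) (hK : IsKGroup (centralizer (D : Set G))) (hv : v ∈ V) (hvD : v ∉ D)
    (hvT : ∀ t ∈ S ⊓ centralizer (D : Set G), t * v * t⁻¹ * v⁻¹ ∈ D) :
    (e.E v).relIndex B ≤ (e.CW v hv).relIndex (Wv D v) := by
  have hc2 := e.clo.c2 e.flag hv hvT
  refine ml.grp (T := S ⊓ centralizer (D : Set G)) (Y := D) (w := v)
    (Q := o2 (centralizer (plus S V D v : Set G) ⊔ (S ⊓ centralizer (D : Set G)))) hK ?_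
    (fun a => Iff.rfl) (fun x => Iff.rfl)
  exact {
    nW := norm_Wv
    nY := centralizer_le_normalizer _
    YW := D_le_Wv
    WY := fun x hx => centralizer_le_normalizer _ (mem_centralizer_iff.2 fun d hd =>
      e.WD_comm d (e.D_le_WD hd) x (e.Wv_le_WD hv hx))
    sq := fun x hx => by
      rw [e.flag.Wsq x (e.WD_le (e.Wv_le_WD hv hx))]
      exact one_mem _
    mem := mem_Wv
    gen := fun U h1 h2 h3 => Wv_le h2 fun c hc => cj_mem h3 hc h1
    TC := inf_le_right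
    two := e.flag.two.to_le inf_le_left
    odd := e.clo.odd
    fixT := hvT
    QC := (o2_le _).trans (by rw [← hc2]; exact fun c hc => hc.1)
    Q2 := isPGroup_o2 _
    fixQ := fun q hq => by
      have h1 := o2_le _ hq
      rw [← hc2] at h1
      exact h1.2
    nrmQ := fun x hx hxv q hq => by
      have h1 : x ∈ sv D v := ⟨hx, hxv⟩
      rw [hc2] at h1
      exact cj_mem (le_normalizer_o2 _) h1 hq
    AQ := e.le_Q hv hvD hvT
    Asq := fun a ha x hx => by
      have e1 : a * (a * x * a⁻¹) * a⁻¹ * x⁻¹ = (a * a) * x * (a * a)⁻¹ * x⁻¹ := by group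
      rw [e1, e.Bsq a ha]
      simp }

theorem Wv_le_NL [Finite G] {L : Subgroup G} (hL : ∀ d, d ∈ L ↔ InL (S ⊓ centralizer (D : Set G)) v d)
    (hv : v ∈ V) (hvD : v ∉ D) (hvT : ∀ t ∈ S ⊓ centralizer (D : Set G), t * v * t⁻¹ * v⁻¹ ∈ D) :
    Wv D v ≤ e.NL v L (e.E v) := by
  refine Wv_le (fun d hd => ⟨e.D_le_WD hd, fun a ha => ?_⟩) fun c hc =>
    ⟨e.Wv_le_WD hv (cj_mem_Wv hc), fun a ha => ?_⟩
  · have h1 := mem_centralizer_iff.1 (e.B_cent (e.E_le_B ha.2)) d hd
    have e1 : a * d * a⁻¹ * d⁻¹ = 1 := by rw [← h1]; group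
    rw [e1]
    exact one_mem _
  · have h1 := mem_cj.1 (e.o2_le_cj hc (e.E_le hv hvD hvT ha.2))
    rw [hL]
    have e1 : a * (c * v * c⁻¹) * a⁻¹ * (c * v * c⁻¹)⁻¹ =
      c * (c⁻¹ * a * c * v * (c⁻¹ * a * c)⁻¹ * v⁻¹) * c⁻¹ := by group
    rw [e1, inL_conj hvT hc]
    exact ⟨_, h1, rfl⟩

theorem a7 [Finite G] {L : Subgroup G} (hL : ∀ d, d ∈ L ↔ InL (S ⊓ centralizer (D : Set G)) v d)
    (hv : v ∈ V) (hvD : v ∉ D) (hvT : ∀ t ∈ S ⊓ centralizer (D : Set G), t * v * t⁻¹ * v⁻¹ ∈ D) :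
    (e.NL v L (e.E v)).relIndex (cl V (centralizer (D : Set G))) ≤
      (Wv D v ⊔ (cl V (centralizer (D : Set G)) ⊓ centralizer (B : Set G))).relIndex
        (cl V (centralizer (D : Set G))) := by
  refine rel_left (sup_le (e.Wv_le_NL hL hv hvD hvT) ?_) _
  rintro x ⟨hx, hxB⟩
  refine ⟨hx, fun a ha => ?_⟩
  have h2 := mem_centralizer_iff.1 hxB a (e.E_le_B ha.2)
  have e1 : a * x * a⁻¹ * x⁻¹ = 1 := by rw [h2]; group
  rw [e1]
  exact one_mem _

section good

theorem E_sq : ∀ a ∈ e.E v, a * a = 1 := fun a ha => e.Bsq a ha.1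

omit e in
/-- the greedy count with `{w ∈ W_D : [E, w] ⊆ L(v)}` -/
theorem a6 [Finite G] (e : End S Z V D B) (g : GoodAt (S ⊓ centralizer (D : Set G)) V D lam T₀)
    (hvl : v ∈ lam) (hvD : v ∉ D) {L : Subgroup G}
    (hL : ∀ d, d ∈ L ↔ InL (S ⊓ centralizer (D : Set G)) v d) :
    (centralizer (cl V (centralizer (D : Set G)) : Set G)).relIndex (e.E v) ≤
        (e.NL v L (e.E v)).relIndex (cl V (centralizer (D : Set G))) ∧
      ((centralizer (cl V (centralizer (D : Set G)) : Set G)).relIndex (e.E v) =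
        (e.NL v L (e.E v)).relIndex (cl V (centralizer (D : Set G))) →
        ∀ a ∈ e.E v, ∀ x ∈ cl V (centralizer (D : Set G)), a * x * a⁻¹ * x⁻¹ ∈ D) := by
  have hv := g.leV hvl
  have hvT := g.comm v hvl
  set W := cl V (centralizer (D : Set G)) with hW
  let ι := centralizer (D : Set G)
  let Vi : ι → Subgroup G := fun c => cj (c : G) V
  have hV : ∀ i, Vi i ≤ W := fun i => cj_le_cl i.2
  have hWi : W ≤ ⨆ i, Vi i := le_rfl
  have anti : ∀ F ≤ e.E v, ∀ F' ≤ F, e.NL v L F ≤ e.NL v L F' := fun F _ F' hF' x hx =>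
    ⟨hx.1, fun a ha => hx.2 a ⟨hF' ha.1, ha.2⟩⟩
  have NW : ∀ F ≤ e.E v, e.NL v L F ≤ W := fun F _ x hx => hx.1
  have cen : ∀ F ≤ e.E v, ∀ i, Vi i ≤ e.NL v L (F ⊓ centralizer (Vi i : Set G)) := by
    intro F _ i x hx
    refine ⟨hV i hx, fun a ha => ?_⟩
    have h1 := mem_centralizer_iff.1 ha.1.2 x hx
    have e1 : a * x * a⁻¹ * x⁻¹ = 1 := by rw [← h1]; group
    rw [e1]
    exact one_mem _
  have hNF : ∀ F ≤ e.E v, ∀ x, x ∈ e.NL v L F ↔
      x ∈ W ∧ ∀ a ∈ F, InL (S ⊓ centralizer (D : Set G)) v (a * x * a⁻¹ * x⁻¹) := by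
    intro F hF x
    rw [e.mem_NL, inf_eq_left.2 hF]
    simp only [hL, hW]
  have hFT : ∀ F ≤ e.E v, ∀ i : ι, F ≤ cj (i : G) (S ⊓ centralizer (D : Set G)) := fun F hF i =>
    hF.trans ((e.E_le hv hvD hvT).trans (e.o2_le_cj i.2))
  have loc : ∀ F ≤ e.E v, ∀ i, (centralizer (Vi i : Set G)).relIndex F ≤ (e.NL v L F).relIndex (Vi i) :=
    fun F hF i => loc_off g hvl hvD i.2 (hFT F hF i) (fun a ha => e.E_sq a (hF ha)) (hV i) (hNF F hF)
  constructor
  · have h1 := greedy (m := 1) hV hWi anti NW cen (fun F hF i => by rw [pow_one]; exact loc F hF i) (e.E v) le_rfl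
    rwa [pow_one] at h1
  · intro he a ha
    have h1 := greedy_eq hV hWi anti NW cen loc he
    have h2 : W ≤ cw W (e.E v) D e.WD_comm (e.E_le_B.trans e.B_norm) := by
      refine cl_le fun c hc x hx => ⟨hV ⟨c, hc⟩ hx, fun a ha => ?_⟩
      exact loc_eq g hvl hvD hc (hFT _ le_rfl ⟨c, hc⟩) (fun a ha => e.E_sq a ha) (hV ⟨c, hc⟩) (hNF _ le_rfl)
        (h1 ⟨c, hc⟩) a ha x hx
    intro x hx
    exact (h2 hx).2 a ha

omit e in
/-- the greedy count with `C_{W_D}(E)` -/
theorem a8 [Finite G] (e : End S Z V D B) (g : GoodAt (S ⊓ centralizer (D : Set G)) V D lam T₀)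
    (hvl : v ∈ lam) (hvD : v ∉ D) :
    (centralizer (cl V (centralizer (D : Set G)) : Set G)).relIndex (e.E v) ^ 2 ≤
      (centralizer (e.E v : Set G)).relIndex (cl V (centralizer (D : Set G))) := by
  have hv := g.leV hvl
  have hvT := g.comm v hvl
  set W := cl V (centralizer (D : Set G)) with hW
  let ι := centralizer (D : Set G)
  let Vi : ι → Subgroup G := fun c => cj (c : G) V
  have hV : ∀ i, Vi i ≤ W := fun i => cj_le_cl i.2
  have hFT : ∀ F ≤ e.E v, ∀ i : ι, F ≤ cj (i : G) (S ⊓ centralizer (D : Set G)) := fun F hF i =>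
    hF.trans ((e.E_le hv hvD hvT).trans (e.o2_le_cj i.2))
  have h1 := greedy (E := e.E v) (W := W) (N := fun F => W ⊓ centralizer (F : Set G)) (m := 2) hV le_rfl
    (fun F _ F' hF' => inf_le_inf_left _ (cent_mono hF')) (fun F _ => inf_le_left)
    (fun F _ i => le_inf (hV i) (cent_symm inf_le_right)) (fun F hF i => by
      have h2 := loc_sq (c := (i : G)) g (hFT F hF i) (fun a ha => e.E_sq a (hF ha))
      refine h2.trans (le_of_eq (rel_congr ?_))
      rw [inf_comm W (centralizer _), inf_assoc, inf_eq_right.2 (hV i)]) (e.E v) le_rfl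
  rwa [inf_relIndex_left] at h1

omit e in
/-- **the count at one end** -/
theorem chain [Finite G] (e : End S Z V D B) (ml : MLK.{u, u}) (hK : IsKGroup (centralizer (D : Set G)))
    (g : GoodAt (S ⊓ centralizer (D : Set G)) V D lam T₀) (hvl : v ∈ lam) (hvD : v ∉ D) :
    (centralizer (cl V (centralizer (D : Set G)) : Set G)).relIndex B ≤
        (centralizer (B : Set G)).relIndex (cl V (centralizer (D : Set G))) ∧
      ((centralizer (cl V (centralizer (D : Set G)) : Set G)).relIndex B =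
        (centralizer (B : Set G)).relIndex (cl V (centralizer (D : Set G))) →
        (e.E v).relIndex B = (e.CW v (g.leV hvl)).relIndex (Wv D v) ∧
        (e.E v).relIndex B = (centralizer (B : Set G)).relIndex (Wv D v) ∧
        ∀ a ∈ e.E v, ∀ x ∈ cl V (centralizer (D : Set G)), a * x * a⁻¹ * x⁻¹ ∈ D) := by
  have hv := g.leV hvl
  have hvT := g.comm v hvl
  obtain ⟨L, -, hL⟩ := exists_L (inf_le_right : S ⊓ centralizer (D : Set G) ≤ _) hvT
  have b1 := e.a1 hv
  have b2 := e.a2 hv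
  have b3 := e.a3 hv
  have b4 := e.a4 hv
  have b5 := e.a5 ml hK hv hvD hvT
  obtain ⟨b6, b6'⟩ := e.a6 g hvl hvD hL
  have b7 := e.a7 hL hv hvD hvT
  set W := cl V (centralizer (D : Set G)) with hW
  set x := (e.E v).relIndex B with hx
  set x1 := (e.CW v hv).relIndex (Wv D v) with hx1
  set x2 := (centralizer (B : Set G)).relIndex (Wv D v) with hx2
  set y := (centralizer (W : Set G)).relIndex (e.E v) with hy
  set y1 := (e.NL v L (e.E v)).relIndex W with hy1
  set p := (W ⊓ centralizer (B : Set G)).relIndex (Wv D v ⊔ (W ⊓ centralizer (B : Set G))) with hp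
  set q := (Wv D v ⊔ (W ⊓ centralizer (B : Set G))).relIndex W with hq
  have h1 : y ≤ q := b6.trans b7
  have h2 : x ≤ p := b5.trans (b4.trans b3)
  have hx0 : 0 < x := rel_pos _ _
  have hy0 : 0 < y := rel_pos _ _
  refine ⟨?_, fun he => ?_⟩
  · rw [b1, b2, mul_comm p q]
    exact Nat.mul_le_mul h1 h2
  · rw [b1, b2, mul_comm p q] at he
    have h3 : q = y := by
      refine le_antisymm ?_ h1
      have h4 : q * x ≤ y * x := by
        calc q * x ≤ q * p := Nat.mul_le_mul_left _ h2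
          _ = y * x := he.symm
      exact Nat.le_of_mul_le_mul_right h4 hx0
    have h4 : p = x := by
      refine le_antisymm ?_ h2
      have h5 : y * p ≤ y * x := by
        calc y * p ≤ q * p := Nat.mul_le_mul_right _ h1
          _ = y * x := he.symm
      exact Nat.le_of_mul_le_mul_left h5 hy0
    refine ⟨?_, ?_, ?_⟩
    · exact le_antisymm b5 ((b4.trans b3).trans h4.le)
    · exact le_antisymm (b5.trans b4) (b3.trans h4.le)
    · exact b6' (le_antisymm b6 (b7.trans h3.le))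

/-- `{w ∈ W_D : [w, B] ≤ D}` -/
def CD (e : End S Z V D B) : Subgroup G :=
  cw (cl V (centralizer (D : Set G))) B D e.WD_comm e.B_norm

theorem mem_CD {x : G} : x ∈ e.CD ↔ x ∈ cl V (centralizer (D : Set G)) ∧ ∀ a ∈ B, a * x * a⁻¹ * x⁻¹ ∈ D :=
  Iff.rfl

theorem cent_le_CD : cl V (centralizer (D : Set G)) ⊓ centralizer (B : Set G) ≤ e.CD := by
  rintro x ⟨hx, hxB⟩
  refine ⟨hx, fun a ha => ?_⟩
  have h2 := mem_centralizer_iff.1 hxB a ha
  have e1 : a * x * a⁻¹ * x⁻¹ = 1 := by rw [h2]; group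
  rw [e1]
  exact one_mem _

/-- the data of an exact end -/
structure Exact (e : End S Z V D B) (v : G) : Prop where
  card : (centralizer (cl V (centralizer (D : Set G)) : Set G)).relIndex B =
    (centralizer (B : Set G)).relIndex (cl V (centralizer (D : Set G)))
  exact : (e.E v).relIndex B = (centralizer (B : Set G)).relIndex (Wv D v)
  full : ∀ x ∈ Wv D v, (∀ b ∈ B, b * x * b⁻¹ * x⁻¹ ∈ D) → x ∈ centralizer (B : Set G)
  ED : ∀ a ∈ e.E v, ∀ x ∈ cl V (centralizer (D : Set G)), a * x * a⁻¹ * x⁻¹ ∈ D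
  one_lt : 1 < (e.E v).relIndex B
  yx : (centralizer (cl V (centralizer (D : Set G)) : Set G)).relIndex (e.E v) ≤ (e.E v).relIndex B
  five : e.CD.relIndex (cl V (centralizer (D : Set G))) < (e.E v).relIndex B ^ 2 ∨
    (1 < (centralizer (cl V (centralizer (D : Set G)) : Set G)).relIndex (e.E v) ∧
      cl V (centralizer (D : Set G)) ⊓ centralizer (e.E v : Set G) ≤ centralizer (B : Set G))

omit e in
theorem exact_of [Finite G] (e : End S Z V D B) (ml : MLK.{u, u}) (hK : IsKGroup (centralizer (D : Set G)))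
    (g : GoodAt (S ⊓ centralizer (D : Set G)) V D lam T₀) (hvl : v ∈ lam) (hvD : v ∉ D)
    (he : (centralizer (B : Set G)).relIndex (cl V (centralizer (D : Set G))) ≤
      (centralizer (cl V (centralizer (D : Set G)) : Set G)).relIndex B) : Exact e v := by
  obtain ⟨h1, h2⟩ := e.chain ml hK g hvl hvD
  have he' := le_antisymm h1 he
  obtain ⟨h3, h4, h5⟩ := h2 he'
  have hv := g.leV hvl
  have b1 := e.a1 hv
  have b8 := e.a8 g hvl hvD
  have h6 : (centralizer (e.E v : Set G)).relIndex (cl V (centralizer (D : Set G))) ≤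
      (centralizer (B : Set G)).relIndex (cl V (centralizer (D : Set G))) :=
    rel_left (cent_mono e.E_le_B) _
  set W := cl V (centralizer (D : Set G)) with hW
  set x := (e.E v).relIndex B with hx
  set y := (centralizer (W : Set G)).relIndex (e.E v) with hy
  have hx0 : 0 < x := rel_pos _ _
  have hy0 : 0 < y := rel_pos _ _
  have hCB : (centralizer (B : Set G)).relIndex W = y * x := by rw [← he', b1]
  have hyx : y ≤ x := by
    have h7 : y * y ≤ y * x := by
      calc y * y = y ^ 2 := by ring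
        _ ≤ _ := b8
        _ ≤ _ := h6
        _ = y * x := hCB
    exact Nat.le_of_mul_le_mul_left h7 hy0
  have hx1 : 1 < x := by
    by_contra hc
    have h7 : x = 1 := by omega
    have h8 : y = 1 := by omega
    apply e.ne
    rw [← relIndex_eq_one, b1, h7, h8]
  refine ⟨he', h4, ?_, h5, hx1, hyx, ?_⟩
  · -- full preimage
    have h7 : centralizer (B : Set G) ⊓ Wv D v ≤ e.CW v hv := by
      rintro y ⟨hy, hyW⟩
      refine ⟨hyW, fun a ha => ?_⟩
      have h2 := mem_centralizer_iff.1 hy a ha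
      have e1 : a * y * a⁻¹ * y⁻¹ = 1 := by rw [h2]; group
      rw [e1]
      exact one_mem _
    have h8 : (centralizer (B : Set G) ⊓ Wv D v).relIndex (Wv D v) = (e.CW v hv).relIndex (Wv D v) := by
      rw [inf_relIndex_right, ← h4, h3]
    have h9 : e.CW v hv ≤ Wv D v := fun y hy => hy.1
    have h10 : centralizer (B : Set G) ⊓ Wv D v = e.CW v hv := by
      refine Subgroup.eq_of_le_of_card_ge h7 ?_
      have c1 := card_mul_relIndex (inf_le_right : centralizer (B : Set G) ⊓ Wv D v ≤ Wv D v)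
      have c2 := card_mul_relIndex h9
      rw [h8] at c1
      exact (Nat.eq_of_mul_eq_mul_right (rel_pos _ _) (c2.trans c1.symm)).le
    intro y hy hyB
    have h11 : y ∈ e.CW v hv := ⟨hy, hyB⟩
    rw [← h10] at h11
    exact h11.1
  · by_cases hr : e.CD.relIndex W < x ^ 2
    · exact Or.inl hr
    right
    push Not at hr
    have h7 : e.CD.relIndex W ≤ y * x := by
      rw [← hCB, ← inf_relIndex_left W (centralizer (B : Set G))]
      exact rel_left e.cent_le_CD _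
    have h8 : x ≤ y := by
      have h9 : x * x ≤ y * x := by
        calc x * x = x ^ 2 := by ring
          _ ≤ _ := hr
          _ ≤ _ := h7
      exact Nat.le_of_mul_le_mul_right h9 hx0
    have h9 : y = x := le_antisymm hyx h8
    have h12 : 1 < y := by omega
    refine ⟨h12, ?_⟩
    have h10 : (centralizer (e.E v : Set G)).relIndex W = (centralizer (B : Set G)).relIndex W := by
      refine le_antisymm h6 ?_
      rw [hCB]
      calc y * x = y ^ 2 := by rw [← h9]; ring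
        _ ≤ _ := b8
    have h11 : W ⊓ centralizer (B : Set G) = W ⊓ centralizer (e.E v : Set G) := by
      refine Subgroup.eq_of_le_of_card_ge (inf_le_inf_left _ (cent_mono e.E_le_B)) ?_
      have c1 := card_mul_relIndex (inf_le_left : W ⊓ centralizer (B : Set G) ≤ W)
      have c2 := card_mul_relIndex (inf_le_left : W ⊓ centralizer (e.E v : Set G) ≤ W)
      rw [inf_relIndex_left] at c1 c2
      rw [h10] at c2
      exact (Nat.eq_of_mul_eq_mul_right (rel_pos _ _) (c2.trans c1.symm)).le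
    rw [← h11]
    exact inf_le_right

end good

end End

end Cfsg.Agent.Omega.NO3b.ClosedPt

end

section


/-!
# #19499 (2), (5): critical pairs, maximal pairs of closed points, both ends

* `Ch Lam C n x y` : the chambers `x`, `y` are joined by a gallery of length `n`;
* `Geo` : the hypotheses (`Flag`, `Lam ≤ N(V)`, (HZ), `⟨Lam, C_G(Z)⟩` nonlocal);
* `Geo.exists_crit`, `Geo.point` : a critical pair `(x, y)`: there is `u` with `V^u = V^y`,
  `W^x ≤ O₂(C^u) ∩ C(W^u)`;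
* `MPair x y D' D` : a maximal pair of closed points; `MPair.symm`, `MPair.toEnd`, `MPair.disj`, `MPair.card`;
* `Geo.exists_out` : **the output of #19499 (0), (2)-(5)**.
-/

set_option autoImplicit false

namespace Cfsg.Agent.Omega.NO3b.ClosedPt

open Subgroup Cfsg Cfsg.Agent.ZN Cfsg.Agent.ZN.ChoiceBase Cfsg.Agent.ZN.ChoiceSit
open Cfsg.Agent.Omega.NO3b.EZero
open Cfsg.Agent.Omega.ML.Final (MLK GDat)

universe u

variable {G : Type u} [Group G]

/-! ### chambers -/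

/-- the chambers `x`, `y` are joined by a gallery of length `n` -/
inductive Ch (Lam C : Subgroup G) : ℕ → G → G → Prop
  | zero (x : G) {l : G} (hl : l ∈ Lam) : Ch Lam C 0 x (x * l)
  | step {k : ℕ} {x y c l : G} (h : Ch Lam C k x y) (hc : c ∈ C) (hl : l ∈ Lam) : Ch Lam C (k + 1) x (y * c * l)

namespace Ch

variable {Lam C : Subgroup G} {k : ℕ} {x y c l : G}

theorem mul_right (h : Ch Lam C k x y) (hl : l ∈ Lam) : Ch Lam C k x (y * l) := by
  cases h with
  | zero x hl' => rw [mul_assoc]; exact zero _ (mul_mem hl' hl)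
  | step h hc hl' => rw [mul_assoc]; exact step h hc (mul_mem hl' hl)

theorem mul_left (g : G) (h : Ch Lam C k x y) : Ch Lam C k (g * x) (g * y) := by
  induction h with
  | zero x hl => rw [← mul_assoc]; exact zero _ hl
  | step h hc hl ih => rw [← mul_assoc, ← mul_assoc]; exact step ih hc hl

theorem cons_lam (h : Ch Lam C k x y) (hl : l ∈ Lam) : Ch Lam C k (x * l) y := by
  induction h with
  | @zero x l' hl' =>
    have h1 := zero (C := C) (x * l) (mul_mem (inv_mem hl) hl')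
    have e : x * l * (l⁻¹ * l') = x * l' := by group
    rwa [e] at h1
  | step h hc hl' ih => exact step ih hc hl'

theorem cons_C (h : Ch Lam C k x y) (hc : c ∈ C) : Ch Lam C (k + 1) (x * c) y := by
  induction h with
  | @zero x l' hl' =>
    have h1 := step (zero (C := C) (x * c) (one_mem Lam)) (inv_mem hc) hl'
    have e : x * c * 1 * c⁻¹ * l' = x * l' := by group
    rwa [e] at h1
  | step h hc' hl' ih => exact step ih hc' hl'

theorem symm (h : Ch Lam C k x y) : Ch Lam C k y x := by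
  induction h with
  | @zero x l hl =>
    have h1 := zero (C := C) (x * l) (inv_mem hl)
    rwa [mul_inv_cancel_right] at h1
  | step h hc hl ih => exact (ih.cons_C hc).cons_lam hl

theorem exists_of_mem {g : G} (hg : g ∈ Lam ⊔ C) : ∃ n, Ch Lam C n 1 g := by
  let P : G → Prop := fun g => ∀ x y n, Ch Lam C n x y → ∃ m, Ch Lam C m x (y * g)
  let K : Subgroup G :=
    { carrier := {g | P g ∧ P g⁻¹}
      one_mem' := by
        refine ⟨fun x y n h => ⟨n, by rwa [mul_one]⟩, fun x y n h => ⟨n, by rwa [inv_one, mul_one]⟩⟩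
      mul_mem' := by
        rintro a b ⟨ha, ha'⟩ ⟨hb, hb'⟩
        constructor
        · intro x y n h
          obtain ⟨m, hm⟩ := ha x y n h
          obtain ⟨m', hm'⟩ := hb x _ m hm
          exact ⟨m', by rwa [← mul_assoc]⟩
        · intro x y n h
          obtain ⟨m, hm⟩ := hb' x y n h
          obtain ⟨m', hm'⟩ := ha' x _ m hm
          exact ⟨m', by rwa [mul_inv_rev, ← mul_assoc]⟩
      inv_mem' := by
        rintro a ⟨ha, ha'⟩
        refine ⟨ha', ?_⟩
        rwa [inv_inv] }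
  have h1 : ∀ l ∈ Lam, P l := fun l hl x y n h => ⟨n, h.mul_right hl⟩
  have h2 : ∀ c ∈ C, P c := fun c hc x y n h => ⟨n + 1, by
    have h3 := h.step hc (one_mem Lam)
    rwa [mul_one] at h3⟩
  have h3 : Lam ⊔ C ≤ K := sup_le (fun l hl => ⟨h1 l hl, h1 _ (inv_mem hl)⟩) fun c hc => ⟨h2 c hc, h2 _ (inv_mem hc)⟩
  have h4 := (h3 hg).1 1 1 0 (by
    have := zero (C := C) (1 : G) (one_mem Lam)
    rwa [mul_one] at this)
  rwa [one_mul] at h4

end Ch

/-! ### critical pairs -/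

/-- `W^x`, `W^y` commute -/
def Com (W : Subgroup G) (x y : G) : Prop := cj x W ≤ centralizer ((cj y W : Subgroup G) : Set G)

theorem Com.symm {W : Subgroup G} {x y : G} (h : Com W x y) : Com W y x := cent_symm h

theorem com_mul_left {W : Subgroup G} {g x y : G} (h : Com W x y) : Com W (g * x) (g * y) := by
  have h1 := cj_cent (g := g) h
  rwa [cj_cj, cj_cj] at h1

/-- the hypotheses of #19499 (2) -/
structure Geo (S Z V Lam : Subgroup G) : Prop where
  flag : Flag S Z V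
  ne : Z ≠ ⊥
  norm : Lam ≤ normalizer (V : Set G)
  hz : ∀ a b : G, cj a V ⊓ cj b V ≠ ⊥ → cj a V ≤ centralizer ((cj b V : Subgroup G) : Set G)
  nonloc : ∀ R : Subgroup G, IsPGroup 2 R → Lam ≤ normalizer (R : Set G) →
    centralizer (Z : Set G) ≤ normalizer (R : Set G) → R = ⊥

namespace Geo

variable {S Z V Lam : Subgroup G} (h : Geo S Z V Lam)
include h

/-- a critical pair -/
theorem exists_crit [Finite G] : ∃ n x y, Ch Lam (centralizer (Z : Set G)) n x y ∧
    ¬ Com (cl V (centralizer (Z : Set G))) x y ∧ ∀ k < n, ∀ a b, Ch Lam (centralizer (Z : Set G)) k a b →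
      Com (cl V (centralizer (Z : Set G))) a b := by
  classical
  set C := centralizer (Z : Set G) with hC
  set W := cl V C with hW
  have hex : ∃ n, ∃ x y, Ch Lam C n x y ∧ ¬ Com W x y := by
    by_contra hc
    push Not at hc
    set K := Lam ⊔ C with hK
    have h1 : ∀ a ∈ K, ∀ b ∈ K, Com W a b := by
      intro a ha b hb
      obtain ⟨n, hn⟩ := Ch.exists_of_mem (mul_mem (inv_mem ha) hb)
      have h2 := com_mul_left (g := a) (hc n _ _ hn)
      rwa [mul_one, mul_inv_cancel_left] at h2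
    have h2 : cl W K ≤ centralizer (cl W K : Set G) := by
      refine cl_le fun a ha => cent_symm (cl_le fun b hb => ?_)
      exact cent_symm (h1 a ha b hb)
    have h3 : ∀ r ∈ cl W K, r ^ 2 = 1 := sq_of_comm h2 (B := fun c : K => cj (c : G) W)
      (fun c => cj_le_cl c.2) le_rfl (by
        rintro c _ ⟨x, hx, rfl⟩
        rw [← map_pow, pow_two, h.flag.Wsq x hx, map_one])
    have h4 : IsPGroup 2 (cl W K) := fun x => ⟨1, Subtype.ext (by
      rw [pow_one]
      exact h3 x x.2)⟩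
    have h5 := h.nonloc _ h4 (le_sup_left.trans (le_normalizer_cl W K)) (le_sup_right.trans (le_normalizer_cl W K))
    apply h.ne
    rw [eq_bot_iff, ← h5]
    exact h.flag.ZV.trans ((le_cl V C).trans (le_cl W K))
  obtain ⟨x, y, h1, h2⟩ := Nat.find_spec hex
  refine ⟨Nat.find hex, x, y, h1, h2, fun k hk a b hab => ?_⟩
  by_contra hc
  exact Nat.find_min hex hk ⟨a, b, hab, hc⟩

/-- one step of the walk -/
theorem walk [Finite G] {A : Subgroup G} {y l : G} (hl : l ∈ Lam)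
    (hA : A ≤ o2 (cj y (centralizer (Z : Set G))))
    (hc : A ≤ centralizer ((cj (y * l) (cl V (centralizer (Z : Set G))) : Subgroup G) : Set G)) :
    A ≤ o2 (cj (y * l) (centralizer (Z : Set G))) := by
  set C := centralizer (Z : Set G) with hC
  set K := centralizer ((cj (y * l) (cl V C) : Subgroup G) : Set G) with hK
  have hV : cj (y * l) V = cj y V := by rw [← cj_cj, mem_normalizer_iff_cj.1 (h.norm hl)]
  have hKV : K ≤ centralizer ((cj (y * l) V : Subgroup G) : Set G) := cent_mono (cj_mono _ (le_cl V C))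
  have h1 : K ≤ cj y C := by
    rw [hC, cj_centralizer]
    rw [hV] at hKV
    exact hKV.trans (cent_mono (cj_mono _ h.flag.ZV))
  have h2 : K ≤ cj (y * l) C := by
    rw [hC, cj_centralizer]
    exact hKV.trans (cent_mono (cj_mono _ h.flag.ZV))
  have h3 : o2 (cj y C) ⊓ K ≤ o2 K :=
    le_o2 ((isPGroup_o2 _).to_le inf_le_left) inf_le_right (norm_inf (h1.trans (le_normalizer_o2 _)) le_normalizer)
  exact (le_inf hA hc).trans (h3.trans (o2_le_of h2 (norm_cent (cj_norm (le_normalizer_cl V C)))))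

theorem W_le_o2 : cl V (centralizer (Z : Set G)) ≤ o2 (centralizer (Z : Set G)) :=
  cl_le fun c hc => by
    have h1 := cj_mono c h.flag.Vo
    rwa [mem_normalizer_iff_cj.1 (le_normalizer_o2 _ hc)] at h1

omit h in
theorem cj_C {z c : G} (hc : c ∈ centralizer (Z : Set G)) :
    cj (z * c) (centralizer (Z : Set G)) = cj z (centralizer (Z : Set G)) := by
  rw [← cj_cj, mem_normalizer_iff_cj.1 (le_normalizer hc)]

omit h in
theorem cj_W {z c : G} (hc : c ∈ centralizer (Z : Set G)) :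
    cj (z * c) (cl V (centralizer (Z : Set G))) = cj z (cl V (centralizer (Z : Set G))) := by
  rw [← cj_cj, cj_cl hc]

theorem le_o2_of_ch [Finite G] {n : ℕ} (hmin : ∀ k < n, ∀ a b, Ch Lam (centralizer (Z : Set G)) k a b →
      Com (cl V (centralizer (Z : Set G))) a b) {k : ℕ} {x y : G} (hk : k < n)
    (hxy : Ch Lam (centralizer (Z : Set G)) k x y) :
    cj x (cl V (centralizer (Z : Set G))) ≤ o2 (cj y (centralizer (Z : Set G))) := by
  induction hxy with
  | @zero x l hl =>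
    refine h.walk hl ?_ (hmin _ hk _ _ (Ch.zero x hl))
    rw [o2_cj]
    exact cj_mono x h.W_le_o2
  | @step k x y c l hch hc hl ih =>
    refine h.walk hl ?_ (hmin _ hk _ _ (Ch.step hch hc hl))
    rw [cj_C hc]
    exact ih (by omega)

/-- the point before the end of a critical pair -/
theorem point [Finite G] {n : ℕ} {x y : G} (hmin : ∀ k < n, ∀ a b, Ch Lam (centralizer (Z : Set G)) k a b →
      Com (cl V (centralizer (Z : Set G))) a b) (hxy : Ch Lam (centralizer (Z : Set G)) n x y) :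
    ∃ u, cj u V = cj y V ∧ cj x (cl V (centralizer (Z : Set G))) ≤ o2 (cj u (centralizer (Z : Set G))) ∧
      Com (cl V (centralizer (Z : Set G))) x u := by
  cases hxy with
  | @zero _ l hl =>
    refine ⟨x, ?_, ?_, cj_cent h.flag.comm⟩
    · rw [← cj_cj, mem_normalizer_iff_cj.1 (h.norm hl)]
    · rw [o2_cj]
      exact cj_mono x h.W_le_o2
  | @step k _ z c l hch hc hl =>
    refine ⟨z * c, ?_, ?_, ?_⟩
    · rw [← cj_cj (z * c) l, mem_normalizer_iff_cj.1 (h.norm hl)]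
    · rw [cj_C hc]
      exact h.le_o2_of_ch hmin (Nat.lt_succ_self k) hch
    · unfold Com
      rw [cj_W hc]
      exact hmin k (Nat.lt_succ_self k) _ _ hch

end Geo

/-! ### maximal pairs -/

/-- a maximal pair of closed points `D'` (at `x`), `D` (at `y`) -/
structure MPair (S Z V : Subgroup G) (x y : G) (D' D : Subgroup G) : Prop where
  clo' : Clo S Z V D'
  clo : Clo S Z V D
  ho : ∃ u, cj u V = cj y V ∧ cj x (cl V (centralizer (Z : Set G))) ≤ o2 (cj u (centralizer (Z : Set G))) ∧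
    Com (cl V (centralizer (Z : Set G))) x u
  ho' : ∃ u, cj u V = cj x V ∧ cj y (cl V (centralizer (Z : Set G))) ≤ o2 (cj u (centralizer (Z : Set G))) ∧
    Com (cl V (centralizer (Z : Set G))) y u
  ne : ¬ cj x (cl V (centralizer (D' : Set G))) ≤
    centralizer ((cj y (cl V (centralizer (D : Set G))) : Subgroup G) : Set G)
  max : ∀ D₁' D₁, Clo S Z V D₁' → Clo S Z V D₁ → Nat.card D' * Nat.card D < Nat.card D₁' * Nat.card D₁ →
    cj x (cl V (centralizer (D₁' : Set G))) ≤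
      centralizer ((cj y (cl V (centralizer (D₁ : Set G))) : Subgroup G) : Set G)

theorem Geo.exists_mpair [Finite G] {S Z V Lam : Subgroup G} (h : Geo S Z V Lam) :
    ∃ x y D' D, MPair S Z V x y D' D := by
  classical
  obtain ⟨n, x, y, h1, h2, h3⟩ := h.exists_crit
  let A : Set (Subgroup G × Subgroup G) := {p | Clo S Z V p.1 ∧ Clo S Z V p.2 ∧
    ¬ cj x (cl V (centralizer (p.1 : Set G))) ≤
      centralizer ((cj y (cl V (centralizer (p.2 : Set G))) : Subgroup G) : Set G)}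
  have hfin : A.Finite := Set.toFinite A
  have hne : A.Nonempty := ⟨(Z, Z), h.flag.clo_Z, h.flag.clo_Z, h2⟩
  obtain ⟨p, hp, hmax⟩ := Set.exists_max_image A (fun p => Nat.card p.1 * Nat.card p.2) hfin hne
  refine ⟨x, y, p.1, p.2, hp.1, hp.2.1, h.point h3 h1, h.point h3 h1.symm, hp.2.2, ?_⟩
  intro D₁' D₁ hc1 hc2 hlt
  by_contra hc
  exact absurd (hmax (D₁', D₁) ⟨hc1, hc2, hc⟩) (not_le.2 hlt)

namespace MPair

variable {S Z V D' D : Subgroup G} {x y : G} (m : MPair S Z V x y D' D)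
include m

theorem symm : MPair S Z V y x D D' where
  clo' := m.clo
  clo := m.clo'
  ho := m.ho'
  ho' := m.ho
  ne := fun h => m.ne (cent_symm h)
  max := fun D₁' D₁ h1 h2 h3 => cent_symm (m.max D₁ D₁' h2 h1 (by rwa [mul_comm, mul_comm (Nat.card D₁)]))

/-- one end -/
theorem toEnd [Finite G] (fl : Flag S Z V) : End S Z V D (cj (y⁻¹ * x) (cl V (centralizer (D' : Set G)))) := by
  have hle : cl V (centralizer (D' : Set G)) ≤ cl V (centralizer (Z : Set G)) :=
    cl_le fun _ hp => cj_le_cl (m.clo'.CD_le hp)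
  have key : ∀ {A B : Subgroup G}, cj x A ≤ centralizer ((cj y B : Subgroup G) : Set G) ↔
      cj (y⁻¹ * x) A ≤ centralizer (B : Set G) := by
    intro A B
    constructor
    · intro h
      have h1 := cj_cent (g := y⁻¹) h
      rwa [cj_cj, cj_inv_cj] at h1
    · intro h
      have h1 := cj_cent (g := y) h
      rwa [cj_cj, mul_inv_cancel_left] at h1
  obtain ⟨u, hu, hux, huc⟩ := m.ho
  refine ⟨fl, m.clo, ?_, ?_, ⟨y⁻¹ * u, ?_, ?_⟩, fun h => m.ne (key.2 h), ?_⟩
  · rintro _ ⟨a, ha, rfl⟩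
    rw [← map_mul, fl.Wsq a (hle ha), map_one]
  · refine key.1 ?_
    rw [← hu]
    exact (cj_mono x hle).trans (huc.trans (cent_mono (cj_mono u (le_cl _ _))))
  · rw [← cj_cj, hu, cj_inv_cj]
  · have h1 := cj_mono y⁻¹ ((cj_mono x hle).trans hux)
    rw [cj_cj, ← o2_cj, cj_cj] at h1
    exact h1
  · intro D₁ hD₁ hlt
    refine key.1 (m.max D' D₁ m.clo' hD₁ ?_)
    refine Nat.mul_lt_mul_of_pos_left ?_ Nat.card_pos
    exact lt_of_le_of_ne (Subgroup.card_le_of_le hlt.le) fun h2 => hlt.ne (Subgroup.eq_of_le_of_card_ge hlt.le h2.ge)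

/-- `D ∩ D'^g = 1` -/
theorem disj (hz : ∀ a b : G, cj a V ⊓ cj b V ≠ ⊥ → cj a V ≤ centralizer ((cj b V : Subgroup G) : Set G)) :
    D ⊓ cj (y⁻¹ * x) D' = ⊥ := by
  by_contra hc
  apply m.ne
  have h1 : cj (y⁻¹ * x) (cl V (centralizer (D' : Set G))) ≤ centralizer (cl V (centralizer (D : Set G)) : Set G) := by
    rw [cl, cj_iSup]
    refine iSup_le fun c' => cent_symm (cl_le fun c hc2 => ?_)
    rw [cj_cj]
    refine hz _ _ fun h2 => hc ?_
    rw [eq_bot_iff, ← h2]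
    refine inf_le_inf ?_ ?_
    · have h3 := cj_mono c m.clo.DV
      rwa [mem_normalizer_iff_cj.1 (centralizer_le_normalizer _ hc2)] at h3
    · rw [← cj_cj (y⁻¹ * x) (c' : G)]
      refine cj_mono _ ?_
      have h3 := cj_mono (c' : G) m.clo'.DV
      rwa [mem_normalizer_iff_cj.1 (centralizer_le_normalizer _ c'.2)] at h3
  have h2 := cj_cent (g := y) h1
  rwa [cj_cj, mul_inv_cancel_left] at h2

end MPair

/-- sections of K-groups -/
theorem kgroup_cent {D Z : Subgroup G} (h : centralizer (D : Set G) ≤ centralizer (Z : Set G))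
    (hK : IsKGroup (centralizer (Z : Set G))) : IsKGroup (centralizer (D : Set G)) :=
  ML.Final.kgroup_of_surj hK ((centralizer (D : Set G)).subgroupOf (centralizer (Z : Set G)))
    (subgroupOfEquivOfLe h).toMonoidHom (subgroupOfEquivOfLe h).surjective

/-- `E` is the same for all good `v` -/
theorem End.E_eq [Finite G] {S Z V D B lam T₀ : Subgroup G} (e : End S Z V D B)
    (g : GoodAt (S ⊓ centralizer (D : Set G)) V D lam T₀) {v w : G} (hv : v ∈ lam) (hvD : v ∉ D) (hw : w ∈ lam)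
    (hwD : w ∉ D) : e.E v = e.E w := by
  have h1 : ∀ {v : G}, v ∈ lam → v ∉ D → S ⊓ centralizer ((D ⊔ zpowers v : Subgroup G) : Set G) =
      (S ⊓ centralizer (D : Set G)) ⊓ T₀ := by
    intro v hv hvD
    ext t
    rw [mem_inf, mem_cent_sup, mem_inf, mem_inf]
    constructor
    · rintro ⟨a, b, c⟩
      exact ⟨⟨a, b⟩, (g.stab v hv hvD t ⟨a, b⟩).1 c⟩
    · rintro ⟨⟨a, b⟩, c⟩
      exact ⟨a, b, (g.stab v hv hvD t ⟨a, b⟩).2 c⟩
  have h2 : sv D v = sv D w := by
    rw [e.clo.c2 e.flag (g.leV hv) (g.comm v hv), e.clo.c2 e.flag (g.leV hw) (g.comm w hw), plus, plus,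
      h1 hv hvD, h1 hw hwD]
  ext a
  rw [e.mem_E_iff (g.leV hv), e.mem_E_iff (g.leV hw), h2]

/-- `D₊` is the same for all good `v` -/
theorem plus_eq {S V D lam T₀ : Subgroup G}
    (g : GoodAt (S ⊓ centralizer (D : Set G)) V D lam T₀) {v : G} (hv : v ∈ lam) (hvD : v ∉ D) :
    plus S V D v = V ⊓ centralizer (((S ⊓ centralizer (D : Set G)) ⊓ T₀ : Subgroup G) : Set G) := by
  have h1 : S ⊓ centralizer ((D ⊔ zpowers v : Subgroup G) : Set G) = (S ⊓ centralizer (D : Set G)) ⊓ T₀ := by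
    ext t
    rw [mem_inf, mem_cent_sup, mem_inf, mem_inf]
    constructor
    · rintro ⟨a, b, c⟩
      exact ⟨⟨a, b⟩, (g.stab v hv hvD t ⟨a, b⟩).1 c⟩
    · rintro ⟨⟨a, b⟩, c⟩
      exact ⟨a, b, (g.stab v hv hvD t ⟨a, b⟩).2 c⟩
  rw [plus, h1]

theorem exists_of_good {T V D lam T₀ : Subgroup G} [Finite G] (g : GoodAt T V D lam T₀) : ∃ v ∈ lam, v ∉ D := by
  by_contra hc
  push Not at hc
  have h1 := Subgroup.card_le_of_le (show lam ≤ D from hc)
  have h2 := g.four
  have h3 : 0 < Nat.card D := Nat.card_pos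
  omega

/-- **the output of #19499 (0), (2)-(5)**: the exact end -/
structure Out {S Z V D B : Subgroup G} (e : End S Z V D B) (lam T₀ : Subgroup G) : Prop where
  good : GoodAt (S ⊓ centralizer (D : Set G)) V D lam T₀
  ex : ∀ v ∈ lam, v ∉ D → e.Exact v
  lt : ∀ v ∈ lam, v ∉ D → e.CD.relIndex (cl V (centralizer (D : Set G))) < (e.E v).relIndex B ^ 2
  eq : ∀ v ∈ lam, v ∉ D → ∀ w ∈ lam, w ∉ D → e.E v = e.E w

/-- both ends of a maximal pair -/
theorem MPair.both [Finite G] {S Z V D' D : Subgroup G} {x y : G} (m : MPair S Z V x y D' D) (fl : Flag S Z V)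
    (hz : ∀ a b : G, cj a V ⊓ cj b V ≠ ⊥ → cj a V ≤ centralizer ((cj b V : Subgroup G) : Set G))
    (ml : MLK.{u, u}) (hK : IsKGroup (centralizer (Z : Set G)))
    (good : ∀ D, Clo S Z V D → D ≠ V → ∃ lam T₀, GoodAt (S ⊓ centralizer (D : Set G)) V D lam T₀) :
    (∃ lam T₀, Out (m.toEnd fl) lam T₀) ∨ ∃ lam T₀, Out (m.symm.toEnd fl) lam T₀ := by
  set g := y⁻¹ * x with hg
  have hg' : x⁻¹ * y = g⁻¹ := by rw [hg]; group
  have e := m.toEnd fl
  have e' := m.symm.toEnd fl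
  obtain ⟨lam, T₀, gd⟩ := good D m.clo e.D_ne
  obtain ⟨lam', T₀', gd'⟩ := good D' m.clo' e'.D_ne
  obtain ⟨v, hvl, hvD⟩ := exists_of_good gd
  obtain ⟨v', hvl', hvD'⟩ := exists_of_good gd'
  have hKD := kgroup_cent m.clo.CD_le hK
  have hKD' := kgroup_cent m.clo'.CD_le hK
  have c1 := (e.chain ml hKD gd hvl hvD).1
  have c2 := (e'.chain ml hKD' gd' hvl' hvD').1
  set W := cl V (centralizer (D : Set G)) with hW
  set W' := cl V (centralizer (D' : Set G)) with hW'
  -- transfer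
  have t1 : (centralizer (W' : Set G)).relIndex (cj (x⁻¹ * y) W) =
      (centralizer ((cj g W' : Subgroup G) : Set G)).relIndex W := by
    rw [← relIndex_cj g, cj_centralizer, cj_cj, hg', mul_inv_cancel, cj_one]
  have t2 : (centralizer ((cj (x⁻¹ * y) W : Subgroup G) : Set G)).relIndex W' =
      (centralizer (W : Set G)).relIndex (cj g W') := by
    rw [← relIndex_cj g, cj_centralizer, cj_cj, hg', mul_inv_cancel, cj_one]
  have ex : ∀ v ∈ lam, v ∉ D → e.Exact v := fun v hv hvD => e.exact_of ml hKD gd hv hvD (by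
    rw [t1, t2] at c2
    exact c2)
  have ex' : ∀ v ∈ lam', v ∉ D' → e'.Exact v := fun v hv hvD => e'.exact_of ml hKD' gd' hv hvD (by
    change (centralizer ((cj (x⁻¹ * y) W : Subgroup G) : Set G)).relIndex W' ≤
      (centralizer (W' : Set G)).relIndex (cj (x⁻¹ * y) W)
    rw [t1, t2]
    exact c1)
  -- one end
  have E1 := ex v hvl hvD
  have E2 := ex' v' hvl' hvD'
  rcases E1.five with h1 | ⟨h1, h1'⟩
  · left
    refine ⟨lam, T₀, gd, ex, fun w hw hwD => ?_, fun v hv hvD w hw hwD => e.E_eq gd hv hvD hw hwD⟩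
    rw [e.E_eq gd hw hwD hvl hvD]
    exact h1
  rcases E2.five with h2 | ⟨h2, h2'⟩
  · right
    refine ⟨lam', T₀', gd', ex', fun w hw hwD => ?_, fun v hv hvD w hw hwD => e'.E_eq gd' hv hvD hw hwD⟩
    rw [e'.E_eq gd' hw hwD hvl' hvD']
    exact h2
  exfalso
  have h3 : e'.E v' ≤ centralizer (W' : Set G) := by
    intro b hb
    have hbB : b ∈ cj (x⁻¹ * y) W := e'.E_le_B hb
    have hb' : g * b * g⁻¹ ∈ W := by
      have h4 := mem_cj.1 hbB
      rw [hg'] at h4
      rwa [inv_inv] at h4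
    have h5 : g * b * g⁻¹ ∈ centralizer (e.E v : Set G) := by
      refine mem_centralizer_iff.2 fun a ha => ?_
      have h6 : a * (g * b * g⁻¹) * a⁻¹ * (g * b * g⁻¹)⁻¹ ∈ D := E1.ED a ha _ hb'
      have haB : g⁻¹ * a * g ∈ W' := mem_cj.1 (e.E_le_B ha)
      have h7 : b * (g⁻¹ * a * g) * b⁻¹ * (g⁻¹ * a * g)⁻¹ ∈ D' := E2.ED b hb _ haB
      have h8 : a * (g * b * g⁻¹) * a⁻¹ * (g * b * g⁻¹)⁻¹ ∈ cj g D' := by
        rw [mem_cj]
        have e1 : g⁻¹ * (a * (g * b * g⁻¹) * a⁻¹ * (g * b * g⁻¹)⁻¹) * g =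
          (b * (g⁻¹ * a * g) * b⁻¹ * (g⁻¹ * a * g)⁻¹)⁻¹ := by group
        rw [e1]
        exact inv_mem h7
      have h9 := m.disj hz
      have h10 : a * (g * b * g⁻¹) * a⁻¹ * (g * b * g⁻¹)⁻¹ ∈ D ⊓ cj (y⁻¹ * x) D' := ⟨h6, h8⟩
      rw [h9, mem_bot] at h10
      calc a * (g * b * g⁻¹) = a * (g * b * g⁻¹) * a⁻¹ * (g * b * g⁻¹)⁻¹ * ((g * b * g⁻¹) * a) := by group
        _ = (g * b * g⁻¹) * a := by rw [h10, one_mul]
    have h6 := h1' ⟨hb', h5⟩
    refine mem_centralizer_iff.2 fun w hw => ?_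
    have h7 := mem_centralizer_iff.1 h6 (g * w * g⁻¹) (mem_cj_self hw)
    have e1 : g * w * g⁻¹ * (g * b * g⁻¹) = g * (w * b) * g⁻¹ := by group
    have e2 : g * b * g⁻¹ * (g * w * g⁻¹) = g * (b * w) * g⁻¹ := by group
    rw [e1, e2] at h7
    exact mul_left_cancel (mul_right_cancel h7)
  rw [relIndex_eq_one.2 h3] at h2
  exact lt_irrefl _ h2

/-- **#19499 (0), (2)-(5)** -/
theorem Geo.exists_out [Finite G] {S Z V Lam : Subgroup G} (h : Geo S Z V Lam) (ml : MLK.{u, u})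
    (hK : IsKGroup (centralizer (Z : Set G)))
    (good : ∀ D, Clo S Z V D → D ≠ V → ∃ lam T₀, GoodAt (S ⊓ centralizer (D : Set G)) V D lam T₀) :
    ∃ (D B : Subgroup G) (e : End S Z V D B) (lam T₀ : Subgroup G), Out e lam T₀ := by
  obtain ⟨x, y, D', D, m⟩ := h.exists_mpair
  rcases m.both h.flag h.hz ml hK good with ⟨lam, T₀, o⟩ | ⟨lam, T₀, o⟩
  · exact ⟨_, _, _, lam, T₀, o⟩
  · exact ⟨_, _, _, lam, T₀, o⟩

end Cfsg.Agent.Omega.NO3b.ClosedPt

end

end
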