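import Cfsg.Agent.Omega.NO3b.Closed.Pow
import Cfsg.Agent.Mrg.Omega.NO3b.Closed.Base
import Mathlib.GroupTheory.NoncommPiCoprod
import Cfsg.Agent.Mrg.Omega.NO3b.K0.Abs
import Cfsg.Agent.Mrg.Omega.FrameI

-- merged: Cfsg.Agent.Mrg.Omega.NO3b.Closed.Inst
section

/-!
# `ClosedPt.GoodAt` from `V = E^k` and (NO) on `E` (#19901, #20057)

* `Pow.of_indep` : `V = ⨁ U_i`, `U_i` normalised by `S`, `S`-isomorphic to `U_{i₀}` ⟹ `Pow S V (U i₀) p`;
* `exists_good` : `Pow S V E p`, `|ι| ≥ 2`, `|ε : C_ε(V)| ≤ |E : C_E(ε)|` for elementary abelian `ε ≤ S` ⟹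
  `ClosedPt.GoodAt (S ∩ C(D)) V D lam T₀` for all `D < V` with `D = C_V(C_S(D))`.
-/

set_option autoImplicit false

namespace Cfsg.Agent.Omega.NO3b.ClosedPow

open Subgroup Cfsg

universe u v

variable {G : Type u} [Group G]

theorem Pow.of_indep {ι : Type v} [Finite ι] {S V : Subgroup G} {U : ι → Subgroup G} (i₀ : ι)
    (hS : ∀ i, S ≤ normalizer (U i : Set G)) (hVc : V ≤ centralizer (V : Set G)) (hind : iSupIndep U)
    (hsup : ⨆ i, U i = V) (f : ∀ i, U i₀ ≃* U i)
    (hf : ∀ i, ∀ s ∈ S, ∀ u u' : U i₀, (u' : G) = s * u * s⁻¹ → (f i u' : G) = s * f i u * s⁻¹) :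
    ∃ p : ι → G → G, Pow S V (U i₀) p := by
  classical
  have := Fintype.ofFinite ι
  have hUV : ∀ i, U i ≤ V := fun i => hsup ▸ le_iSup U i
  have hcomm : Pairwise fun i j : ι => ∀ x y : G, x ∈ U i → y ∈ U j → Commute x y := by
    intro i j _ x y hx hy
    exact (mem_centralizer_iff.1 (hVc (hUV i hx)) y (hUV j hy)).symm
  set θ := Subgroup.noncommPiCoprod hcomm with hθ
  have hinj : Function.Injective θ := Subgroup.injective_noncommPiCoprod_of_iSupIndep hind
  have hrange : θ.range = V := by rw [hθ, Subgroup.noncommPiCoprod_range, hsup]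
  have hmem : ∀ g, θ g ∈ V := fun g => hrange ▸ ⟨g, rfl⟩
  have hex : ∀ v ∈ V, ∃ g, θ g = v := fun v hv => by
    rw [← hrange] at hv
    exact hv
  -- conjugation
  have hconj : ∀ s ∈ S, ∀ g g' : (∀ i, U i), (∀ i, (g' i : G) = s * g i * s⁻¹) → θ g' = s * θ g * s⁻¹ := by
    intro s _ g g' hg
    have e1 : θ g = Finset.noncommProd Finset.univ (fun i => (g i : G))
        (fun i _ j _ hij => hcomm hij _ _ (g i).2 (g j).2) := Subgroup.noncommPiCoprod_apply hcomm g
    have e2 : θ g' = Finset.noncommProd Finset.univ (fun i => (g' i : G))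
        (fun i _ j _ hij => hcomm hij _ _ (g' i).2 (g' j).2) := Subgroup.noncommPiCoprod_apply hcomm g'
    have h1 : (MulAut.conj s).toMonoidHom (θ g) = θ g' := by
      rw [e1, e2]
      refine (Finset.map_noncommProd Finset.univ (fun i => (g i : G)) _ (MulAut.conj s).toMonoidHom).trans ?_
      refine Finset.noncommProd_congr rfl (fun i _ => ?_) _
      rw [hg i]
      rfl
    rw [← h1]
    rfl
  let q : G → (∀ i, U i) := fun v => if h : ∃ g, θ g = v then h.choose else 1
  have hq : ∀ g, q (θ g) = g := by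
    intro g
    have h1 : ∃ g', θ g' = θ g := ⟨g, rfl⟩
    have e : q (θ g) = h1.choose := dif_pos h1
    rw [e]
    exact hinj h1.choose_spec
  refine ⟨fun i v => ((f i).symm (q v i) : G), ?_⟩
  exact
    { nV := by
        intro s hs
        rw [← hsup]
        have h1 : ∀ x ∈ S, ∀ y ∈ ⨆ i, U i, x * y * x⁻¹ ∈ ⨆ i, U i := by
          intro x hx y hy
          have h2 : (⨆ i, U i) ≤ (⨆ i, U i).comap (MulAut.conj x).toMonoidHom := by
            refine iSup_le fun i => ?_
            intro z hz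
            exact le_iSup U i (conj_mem (hS i) hx hz)
          exact h2 hy
        exact le_norm_of h1 hs
      nE := hS i₀
      cV := hVc
      mem := fun i v _ => ((f i).symm (q v i)).2
      mul := by
        intro i v hv w hw
        obtain ⟨g, rfl⟩ := hex v hv
        obtain ⟨g', rfl⟩ := hex w hw
        rw [← map_mul, hq, hq, hq, Pi.mul_apply, map_mul]
        rfl
      inj := by
        intro v hv h1
        obtain ⟨g, rfl⟩ := hex v hv
        have h2 : g = 1 := by
          funext i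
          have h3 := h1 i
          rw [hq] at h3
          have h4 : (f i).symm (g i) = 1 := Subtype.ext h3
          rw [MulEquiv.map_eq_one_iff] at h4
          exact h4
        rw [h2, map_one]
      surj := by
        intro g hg
        refine ⟨θ fun i => f i ⟨g i, hg i⟩, hmem _, fun i => ?_⟩
        rw [hq, MulEquiv.symm_apply_apply]
      equi := by
        intro i s hs v hv
        obtain ⟨g, rfl⟩ := hex v hv
        have h1 := hconj s hs g (fun j => ⟨s * g j * s⁻¹, conj_mem (hS j) hs (g j).2⟩) fun j => rfl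
        rw [← h1, hq, hq]
        -- `f i (s u s⁻¹) = s (f i u) s⁻¹` with `u = (f i)⁻¹ (g i)`
        set w := (f i).symm (g i) with hw
        have h2 := hf i s hs w ⟨s * w * s⁻¹, conj_mem (hS i₀) hs w.2⟩ rfl
        have h3 : f i ⟨s * w * s⁻¹, conj_mem (hS i₀) hs w.2⟩ = ⟨s * g i * s⁻¹, conj_mem (hS i) hs (g i).2⟩ := by
          apply Subtype.ext
          rw [h2, hw, MulEquiv.apply_symm_apply]
        have h4 := congrArg (f i).symm h3
        rw [MulEquiv.symm_apply_apply] at h4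
        rw [← h4] }

/-- **`ClosedPt.GoodAt` exists.** -/
theorem exists_good [Finite G] {ι : Type v} [Finite ι] {S V E D : Subgroup G} {p : ι → G → G}
    (h : Pow S V E p) (hk : 2 ≤ Nat.card ι) (hS : IsPGroup 2 S) (hsq : ∀ v ∈ V, v * v = 1)
    (hno : ∀ ε : Subgroup G, ε ≤ S → (∀ a ∈ ε, a * a = 1) →
      (centralizer (V : Set G)).relIndex ε ≤ (centralizer (ε : Set G)).relIndex E)
    (hne : D ≠ V)
    (hclo : ∀ w, w ∈ D ↔ w ∈ V ∧ ∀ t ∈ S ⊓ centralizer (D : Set G), t * w = w * t) :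
    ∃ lam T₀ : Subgroup G, ClosedPt.GoodAt (S ⊓ centralizer (D : Set G)) V D lam T₀ := by
  set T := S ⊓ centralizer (D : Set G) with hTdef
  have hT : T ≤ S := inf_le_left
  have hV2 : IsPGroup 2 V := fun x => ⟨1, Subtype.ext (by simpa [pow_two] using hsq x x.2)⟩
  have hTV : T ≤ normalizer (V : Set G) := hT.trans h.nV
  have hDeq : V ⊓ centralizer (T : Set G) = D := by
    ext w
    rw [hclo w, mem_inf, mem_centralizer_iff]
    rfl
  have hnc : ¬ V ≤ centralizer (T : Set G) := fun h0 => hne (by rw [← hDeq]; exact inf_eq_left.2 h0)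
  obtain ⟨lam, T₀, g⟩ := h.exists_good hT hk (hS.to_le hT) hV2 hnc
  have hnD : ∀ w ∈ lam, w ∉ D → w ∉ centralizer (T : Set G) := by
    intro w hw hwD h0
    apply hwD
    rw [← hDeq]
    exact ⟨g.leV hw, h0⟩
  have hcD : ∀ w ∈ V, w ∉ centralizer (T : Set G) → w ∉ D := by
    intro w _ h0 hwD
    rw [← hDeq] at hwD
    exact h0 hwD.2
  have hNeq : ∀ w ∈ lam, ∀ ε : Subgroup G, ε ≤ T → ∀ N : Subgroup G,
      (∀ x, x ∈ N ↔ x ∈ V ∧ ∀ a ∈ ε, ClosedPt.InL T w (a * x * a⁻¹ * x⁻¹)) → N = NN V ε (LL T w) := by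
    intro w hw ε hε N hN
    ext x
    rw [hN, mem_NN h.cV (hε.trans hTV)]
    refine and_congr_right fun _ => forall₂_congr fun a _ => ?_
    rw [mem_LL (g.fix w hw)]
    rfl
  have hrE : ∀ ε : Subgroup G, 0 < (centralizer (ε : Set G)).relIndex E := fun ε =>
    Nat.pos_of_ne_zero index_ne_zero_of_finite
  have hpow : ∀ ε : Subgroup G, (centralizer (ε : Set G)).relIndex E ≤
      (centralizer (ε : Set G)).relIndex E ^ (Nat.card ι - 1) := fun ε =>
    Nat.le_self_pow (by omega) _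
  refine ⟨lam, T₀, ?_⟩
  exact
    { Dle := hDeq ▸ g.le
      leV := g.leV
      comm := by
        intro w hw t ht
        rw [← hDeq]
        exact ⟨cm_mem hTV ht (g.leV hw), g.fix w hw t ht⟩
      stab := by
        intro w hw hwD t ht
        exact (g.mem_T₀ hw (hnD w hw hwD) ht).symm
      four := by
        have h1 := g.four
        rw [hDeq] at h1
        have h2 := relIndex_mul_relIndex ⊥ D lam bot_le (hDeq ▸ g.le)
        rw [relIndex_bot_left, relIndex_bot_left] at h2
        rw [← h2, mul_comm 4]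
        exact Nat.mul_le_mul_left _ h1
      inf := by
        intro d hd
        exact g.inter d fun w hw hwT => hd w hw (hcD w (g.leV hw) hwT)
      off := by
        intro w hw hwD ε hε hε2 N hN
        rw [hNeq w hw ε hε N hN]
        exact (hno ε (hε.trans hT) hε2).trans ((hpow ε).trans (h.loc hT g hε hw (hnD w hw hwD)).1)
      eq := by
        intro w hw hwD ε hε hε2 N hN heq a ha x hx
        rw [hNeq w hw ε hε N hN] at heq
        have h1 := h.loc hT g hε hw (hnD w hw hwD)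
        have h2 : (centralizer (ε : Set G)).relIndex E ^ (Nat.card ι - 1) = (NN V ε (LL T w)).relIndex V :=
          le_antisymm h1.1 (by rw [← heq]; exact (hno ε (hε.trans hT) hε2).trans (hpow ε))
        rw [← hDeq]
        exact ⟨cm_mem hTV (hε ha) hx, h1.2 h2 x hx a ha⟩
      sq := by
        intro ε hε hε2
        rw [h.index_cent (hε.trans hT)]
        calc (centralizer (V : Set G)).relIndex ε ^ 2 ≤ (centralizer (ε : Set G)).relIndex E ^ 2 :=
              Nat.pow_le_pow_left (hno ε (hε.trans hT) hε2) 2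
          _ ≤ _ := Nat.pow_le_pow_right (hrE ε) hk }

end Cfsg.Agent.Omega.NO3b.ClosedPow

end

-- merged: Cfsg.Agent.Mrg.Omega.NO3b.Closed.InstPar
section

section


/-!
# (NO) on an irreducible submodule for a minimal parabolic (for `ClosedPt.GoodAt`)

* `no_of_par` : `P` a minimal parabolic over its Sylow 2-subgroup `S`, `E` a `P`-irreducible elementary abelian
  subgroup not centralised by `O²(P)`, `O₂(P) ≤ C(V)` ⟹ `|ε : C_ε(V)| ≤ |E : C_E(ε)|` for elementary abelian `ε ≤ S`;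
* `exists_good_of_par` : `ClosedPt.GoodAt` from this and `V = ⨁ U_i`, `U_i ≅ U_{i₀}` as `S`-modules.
-/

set_option autoImplicit false

namespace Cfsg.Agent.Omega.NO3b.ClosedPow

open Subgroup Cfsg Cfsg.Agent.ZN Cfsg.Agent.ZN.ChoiceBase Cfsg.Agent.ZN.ChoiceSit
open Cfsg.Agent.MinSimple.MinParabolic (IsMinPar)
open Cfsg.Agent.MinSimple.VModule (oddGen oddGen_le mem_oddGen le_normalizer_oddGen oddGen_le_of_sup)
open Cfsg.Agent.Omega.NO3b.K0

universe u v

variable {G : Type u} [Group G] [Finite G]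

theorem no_of_par (hA : FFBr.AStmt.{u}) {S P V E : Subgroup G} (hSyl : Syl S P) (hmin : IsMinPar S P)
    (hEP : E ≤ P) (hsq : ∀ e ∈ E, e * e = 1) (hc : E ≤ centralizer (E : Set G)) (hPE : P ≤ normalizer (E : Set G))
    (irr : ∀ K : Subgroup G, K ≤ E → P ≤ normalizer (K : Set G) → K = ⊥ ∨ K = E)
    (hE : ¬ E ≤ centralizer (oddGen P : Set G)) (hV : o2 P ≤ centralizer (V : Set G)) {ε : Subgroup G}
    (hε : ε ≤ S) (hε2 : ∀ a ∈ ε, a * a = 1) :
    (centralizer (V : Set G)).relIndex ε ≤ (centralizer (ε : Set G)).relIndex E := by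
  have h1 := noOv hA hSyl hmin ⊥ E ε (E ⊓ centralizer (ε : Set G)) bot_le hEP
    (fun y hy => by rw [pow_two]; exact hsq y hy) hc
    (by
      intro x _
      rw [mem_normalizer_iff]
      intro y
      rw [mem_bot, mem_bot]
      constructor
      · rintro rfl; group
      · intro h0
        have e : y = x⁻¹ * (x * y * x⁻¹) * x := by group
        rw [e, h0]; group) hPE
    (fun K _ hK hPK => irr K hK hPK)
    (fun h0 => hE (commutator_eq_bot_iff_le_centralizer.1 (le_bot_iff.1 h0)))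
    (hε.trans hSyl.1) (fun a ha => by rw [pow_two, hε2 a ha]; exact one_mem _)
    (fun a ha b hb => by
      have h2 := hε2 _ (mul_mem ha hb)
      have e : a * b * a⁻¹ * b⁻¹ = 1 := by
        have ea : a⁻¹ = a := inv_eq_of_mul_eq_one_left (hε2 a ha)
        have eb : b⁻¹ = b := inv_eq_of_mul_eq_one_left (hε2 b hb)
        rw [ea, eb, mul_assoc (a * b)]
        exact h2
      rw [e]; exact one_mem _) inf_le_left
    (le_of_eq (commutator_eq_bot_iff_le_centralizer.2 (by
      intro x hx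
      exact hx.2)))
  rw [inf_relIndex_left] at h1
  exact (relIndex_le_of_le_left hV index_ne_zero_of_finite).trans h1

/-- **`ClosedPt.GoodAt` from `V = ⨁ U_i` over a minimal parabolic.** -/
theorem exists_good_of_par (hA : FFBr.AStmt.{u}) {ι : Type v} [Finite ι] {S P V D : Subgroup G}
    {U : ι → Subgroup G} (i₀ : ι) (hk : 2 ≤ Nat.card ι) (hSyl : Syl S P) (hmin : IsMinPar S P)
    (hS : ∀ i, S ≤ normalizer (U i : Set G)) (hVc : V ≤ centralizer (V : Set G)) (hsq : ∀ v ∈ V, v * v = 1)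
    (hind : iSupIndep U) (hsup : ⨆ i, U i = V) (f : ∀ i, U i₀ ≃* U i)
    (hf : ∀ i, ∀ s ∈ S, ∀ u u' : U i₀, (u' : G) = s * u * s⁻¹ → (f i u' : G) = s * f i u * s⁻¹)
    (hVS : V ≤ P) (hP : P ≤ normalizer (U i₀ : Set G))
    (irr : ∀ K : Subgroup G, K ≤ U i₀ → P ≤ normalizer (K : Set G) → K = ⊥ ∨ K = U i₀)
    (hE : ¬ U i₀ ≤ centralizer (oddGen P : Set G)) (hV : o2 P ≤ centralizer (V : Set G))
    (hne : D ≠ V) (hclo : ∀ w, w ∈ D ↔ w ∈ V ∧ ∀ t ∈ S ⊓ centralizer (D : Set G), t * w = w * t) :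
    ∃ lam T₀ : Subgroup G, ClosedPt.GoodAt (S ⊓ centralizer (D : Set G)) V D lam T₀ := by
  obtain ⟨p, h⟩ := Pow.of_indep i₀ hS hVc hind hsup f hf
  have hUV : U i₀ ≤ V := hsup ▸ le_iSup U i₀
  refine exists_good h hk hSyl.2.1 hsq (fun ε hε hε2 => ?_) hne hclo
  exact no_of_par hA hSyl hmin (hUV.trans hVS) (fun e he => hsq e (hUV he))
    ((hUV.trans hVc).trans (centralizer_le hUV)) hP irr hE hV hε hε2

end Cfsg.Agent.Omega.NO3b.ClosedPow

end

section


/-!
# (C)(2) of GammaFF, part 6: `V_P = E^k`, `k ≥ 2`, is not FF (helper194, #20969 (f4))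

* `false_of_pow` : `P ∈ P*(S)`, `V_P = ⨁ E_j`, at least two summands, irreducible, not centralised by `O²(P)`,
  isomorphic as `S`-groups: no subgroup of `S` offends on `V_P`.
-/

set_option autoImplicit false

namespace Cfsg.Agent.Omega.NO3b.CTwoFF

open Subgroup Cfsg
open Cfsg.Agent.ZN (o2 zc zl jj zj)
open Cfsg.Agent.ZN.ChoiceBase hiding mem_zc
open Cfsg.Agent.ZN.ChoiceSit (Syl o2_le_syl)
open Cfsg.Agent.Omega.MinPar
open Cfsg.Agent.Omega.FFThm (ElemM OffM)
open Cfsg.Agent.MinSimple.EmptyTI (syl_of_le)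
open Cfsg.Agent.MinSimple.VModule (oddGen oddGen_le le_normalizer_zl zc_comm zc_sq)
open Cfsg.Agent.Omega.NO3b.ClosedPow (Pow)

universe u

variable {G : Type u} [Group G] [Finite G] {S : Sylow 2 G} {P : Subgroup G}

theorem false_of_pow (hA : FFBr.AStmt.{u}) (hc : IsCharacteristicTwoType G) (hP : IsParS (S : Subgroup G) P)
    {k : ℕ} (hk : 2 ≤ k) {E : Fin k → Subgroup G} (hind : iSupIndep E) (hsup : (⨆ j, E j) = zl (S : Subgroup G) P)
    (hPE : ∀ j, P ≤ normalizer (E j : Set G))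
    (hirr : ∀ j, ∀ A : Subgroup G, A ≤ E j → P ≤ normalizer (A : Set G) → A = ⊥ ∨ A = E j)
    (hmv : ∀ j, ¬ E j ≤ centralizer (oddGen P : Set G))
    (hiso : ∀ i j, ∃ f : E i ≃* E j, ∀ s ∈ (S : Subgroup G), ∀ v w : E i, (w : G) = s * v * s⁻¹ →
      (f w : G) = s * f v * s⁻¹)
    {A : Subgroup G} (hAS : A ≤ (S : Subgroup G)) (hoff : OffM (zl (S : Subgroup G) P) A) : False := by
  have hcom : zl (S : Subgroup G) P ≤ centralizer (zl (S : Subgroup G) P : Set G) := by
    intro x hx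
    rw [mem_centralizer_iff]
    intro y hy
    exact zc_comm _ _ (hP.isLoc.zl_le S hc hy) _ (hP.isLoc.zl_le S hc hx)
  have hsq : ∀ v ∈ zl (S : Subgroup G) P, v ^ 2 = 1 := fun v hv => zc_sq _ v (hP.isLoc.zl_le S hc hv)
  let i₀ : Fin k := ⟨0, by omega⟩
  choose f hf using fun j => hiso i₀ j
  obtain ⟨p, h⟩ := Pow.of_indep (S := (S : Subgroup G)) i₀ (fun j => hP.le.trans (hPE j)) hcom hind hsup f
    (fun j s hs u u' e => hf j s hs u u' e)
  have hEV : E i₀ ≤ zl (S : Subgroup G) P := hsup ▸ le_iSup E i₀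
  have hVS : zl (S : Subgroup G) P ≤ P := ((hP.isLoc.zl_le S hc).trans (MinSimple.VModule.zc_le _)).trans (MinSimple.VModule.o2_le P)
  have ho2 : (S : Subgroup G) ⊓ centralizer (zl (S : Subgroup G) P : Set G) = o2 P :=
    IsParS.inf_centralizer S hc hP
  have hmem : ∀ g ∈ (S : Subgroup G), g ∈ centralizer (zl (S : Subgroup G) P : Set G) → g ∈ o2 P :=
    fun g h1 h2 => ho2 ▸ ⟨h1, h2⟩
  -- `|A : C_A(V_P)| ≤ |E : C_E(A)|`
  have h1 := K0.noOv hA (syl_of_le hP.le) hP.toIsMinPar ⊥ (E i₀) A (E i₀ ⊓ centralizer (A : Set G)) bot_le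
    (hEV.trans hVS) (fun y hy => hsq y (hEV hy)) ((hEV.trans hcom).trans (centralizer_le hEV))
    (by
      intro x _
      rw [mem_normalizer_iff]
      intro y
      rw [mem_bot, mem_bot]
      constructor
      · rintro rfl; group
      · intro h0
        have e : y = x⁻¹ * (x * y * x⁻¹) * x := by group
        rw [e, h0]; group) (hPE i₀)
    (fun K _ hK hPK => hirr i₀ K hK hPK)
    (fun h0 => hmv i₀ (commutator_eq_bot_iff_le_centralizer.1 (le_bot_iff.1 h0)))
    (hAS.trans hP.le) (fun a ha => hmem _ (pow_mem (hAS ha) 2) (hoff.sq a ha))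
    (fun a ha b hb => hmem _ (mul_mem (mul_mem (mul_mem (hAS ha) (hAS hb)) (inv_mem (hAS ha))) (inv_mem (hAS hb)))
      (hoff.comm a ha b hb)) inf_le_left
    (le_of_eq (commutator_eq_bot_iff_le_centralizer.2 fun x hx => hx.2))
  rw [inf_relIndex_left] at h1
  have h2 : (centralizer (zl (S : Subgroup G) P : Set G)).relIndex A ≤ (o2 P).relIndex A :=
    relIndex_le_of_le_left (by rw [← ho2]; exact inf_le_right) index_ne_zero_of_finite
  have h3 := FFThm.relIndex_le_iff.1 hoff.le
  rw [h.index_cent hAS] at h3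
  have h4 := (h3.trans h2).trans h1
  rw [Nat.card_eq_fintype_card, Fintype.card_fin] at h4
  set e : ℕ := (centralizer (A : Set G)).relIndex (E i₀) with he
  have he0 : e ≠ 0 := index_ne_zero_of_finite
  have he1 : e = 1 := by
    by_contra hne
    have h5 : 2 ≤ e := by omega
    have h6 : e ^ 1 < e ^ k := Nat.pow_lt_pow_right h5 (by omega)
    rw [pow_one] at h6
    omega
  have h7 : (centralizer (A : Set G)).relIndex (zl (S : Subgroup G) P) = 1 := by
    rw [h.index_cent hAS, ← he, he1, one_pow]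
  exact hoff.ne (le_centralizer_iff.1 (relIndex_eq_one.1 h7))

end Cfsg.Agent.Omega.NO3b.CTwoFF

end

end
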